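import Mathlib
import Cfsg.Agent.OddHalf.D4.Free.AutFacts
import Cfsg.Agent.OddHalf.DblR.SheetMinus
import Cfsg.Agent.KFacts.RgdRigid
import Cfsg.Agent.KFacts.RgdAutFacts
import Cfsg.Agent.LieRecognition.FieldSemilinear
import Cfsg.Agent.AutOrth.Final

-- merged: Cfsg.Agent.OddHalf.D4.MinusB.Chain
section

/-!
# ODD, D4, (1B): chains of lines

helper328. `Chain A φ U` : `U` is built from `1` by adding one line at a time; `Chain.flt` : the filtration of
`FltA`.
-/

set_option autoImplicit false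

namespace Cfsg.Agent.OddHalf.D4.MinusB

open Subgroup Cfsg.Agent.OddHalf.D4.Free

variable {X : Type*} [Group X]

/-- `l` is a line over `D`; `φ` = "trivial on `Z(T)`". -/
structure Step (A : Subgroup (MulAut X)) (φ : MulAut X → Prop) (D l : Subgroup X) : Prop where
  sq : ∀ x ∈ l, x * x ∈ D
  pair : ∃ a ∈ l, ∃ b ∈ l, a ∉ D ∧ b ∉ D ∧ a⁻¹ * b ∉ D
  star : ∀ y ∈ A, φ y → y * y = 1 → ∀ x ∈ l, x ∉ D → y x = x → ∀ x' ∈ l, y x' = x'
  fix : ∀ x ∈ l, ∀ e ∈ A, φ e → e x * x⁻¹ ∈ D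

/-- Subgroups built from `1` by adding lines. -/
inductive Chain (A : Subgroup (MulAut X)) (φ : MulAut X → Prop) : Subgroup X → Prop
  | bot : Chain A φ ⊥
  | step {D l : Subgroup X} : Chain A φ D → Step A φ D l → Chain A φ (D ⊔ l)

variable {A : Subgroup (MulAut X)} {φ : MulAut X → Prop}

/-- The filtration of a chain. -/
theorem Chain.exists_filt {U₀ : Subgroup X} (h : Chain A φ U₀) : ∃ (U : ℕ → Subgroup X) (L : ℕ → Set (Subgroup X)),
    U 0 = U₀ ∧ (∃ n, U n = ⊥) ∧ (∀ j, U (j + 1) ≤ U j) ∧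
      (∀ j, ∀ u ∈ U j, u ∈ closure ({x | ∃ l ∈ L j, x ∈ l} ∪ (U (j + 1) : Set X))) ∧
      ∀ j, ∀ l ∈ L j, l ≤ U j ∧ Step A φ (U (j + 1)) l := by
  induction h with
  | bot =>
    refine ⟨fun _ => ⊥, fun _ => ∅, rfl, ⟨0, rfl⟩, fun _ => le_rfl, fun j u hu => ?_, fun j l hl => absurd hl (by simp)⟩
    exact subset_closure (Or.inr hu)
  | @step D l _ hs ih =>
    obtain ⟨U, L, h0, ⟨n, hn⟩, hle, hgen, hL⟩ := ih
    refine ⟨fun j => Nat.casesOn j (D ⊔ l) U, fun j => Nat.casesOn j {l} L, rfl, ⟨n + 1, hn⟩, ?_, ?_, ?_⟩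
    · rintro (_ | j)
      · show U 0 ≤ D ⊔ l
        rw [h0]; exact le_sup_left
      · exact hle j
    · rintro (_ | j) u hu
      · have h1 : D ⊔ l ≤ closure ({x | ∃ l' ∈ ({l} : Set (Subgroup X)), x ∈ l'} ∪ (U 0 : Set X)) := by
          refine sup_le (fun x hx => ?_) (fun x hx => ?_)
          · exact subset_closure (Or.inr (by rw [h0]; exact hx))
          · exact subset_closure (Or.inl ⟨l, rfl, hx⟩)
        exact h1 hu
      · exact hgen j u hu
    · rintro (_ | j) l' hl'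
      · have h1 : l' = l := hl'
        subst h1
        refine ⟨le_sup_right, ?_⟩
        show Step A φ (U 0) l'
        rw [h0]; exact hs
      · exact hL j l' hl'

/-- **`FltA` from a chain.** -/
theorem Chain.flt {T : Sylow 2 X} (h : Chain A (FixZ T) (T : Subgroup X)) :
    ∃ U L, FltA T A U L := by
  obtain ⟨U, L, h0, hn, hle, hgen, hL⟩ := h.exists_filt
  exact ⟨U, L,
    { zero := h0
      bot := hn
      le := hle
      gen := hgen
      line_le := fun j l hl => (hL j l hl).1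
      sq := fun j l hl => (hL j l hl).2.sq
      pair := fun j l hl => (hL j l hl).2.pair
      star := fun j l hl => (hL j l hl).2.star
      fix := fun j l hl => (hL j l hl).2.fix }⟩

theorem Chain.congr {U₀ U₁ : Subgroup X} (h : Chain A φ U₀) (e : U₀ = U₁) : Chain A φ U₁ := e ▸ h

end Cfsg.Agent.OddHalf.D4.MinusB

end

-- merged: Cfsg.Agent.OddHalf.D4.MinusB.Flag
section

/-!
# ODD, D4, (1B): flags and Siegel elements of orthogonal spaces of minus type in characteristic two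

helper328. `Fl h q f n` : an alternating form `h`, a quadratic form `q` with polar form `h`, a basis
`f 0, ..., f (2n + 1)` with antidiagonal Gram matrix, `f i` singular for `i < n`. `Fs k` : the span of
`f 0, ..., f (k - 1)`, defined by orthogonality.
-/

set_option autoImplicit false

namespace Cfsg.Agent.OddHalf.D4.MinusB

variable {F V : Type*} [Field F] [AddCommGroup V] [Module F V]

/-- A flag basis. -/
structure Fl (h : V → V → F) (q : V → F) (f : ℕ → V) (n : ℕ) : Prop where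
  two : (2 : F) = 0
  add_left : ∀ u v w, h (u + v) w = h u w + h v w
  smul_left : ∀ (a : F) u w, h (a • u) w = a * h u w
  comm : ∀ u v, h u v = h v u
  self : ∀ v, h v v = 0
  qadd : ∀ v w, q (v + w) = q v + q w + h v w
  qsmul : ∀ (a : F) v, q (a • v) = a * a * q v
  pair : ∀ i, i < 2 * n + 2 → h (f i) (f (2 * n + 1 - i)) ≠ 0
  orth : ∀ i j, i < 2 * n + 2 → j < 2 * n + 2 → i + j ≠ 2 * n + 1 → h (f i) (f j) = 0
  sing : ∀ i, i < n → q (f i) = 0
  nd : ∀ v, (∀ i, i < 2 * n + 2 → h v (f i) = 0) → v = 0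

/-- an isometry -/
structure Iso (h : V → V → F) (q : V → F) (g : V ≃ₗ[F] V) : Prop where
  h : ∀ u v, h (g u) (g v) = h u v
  q : ∀ v, q (g v) = q v

namespace Fl

variable {h : V → V → F} {q : V → F} {f : ℕ → V} {n : ℕ} (H : Fl h q f n)

include H

theorem add_right (u v w : V) : h u (v + w) = h u v + h u w := by
  rw [H.comm, H.add_left, H.comm v, H.comm w]

theorem smul_right (a : F) (u w : V) : h u (a • w) = a * h u w := by
  rw [H.comm, H.smul_left, H.comm w]

theorem zero_left (w : V) : h 0 w = 0 := by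
  have := H.smul_left 0 0 w
  rwa [zero_smul, zero_mul] at this

theorem add_self (t : F) : t + t = 0 := by rw [← two_mul, H.two, zero_mul]

theorem addV (v : V) : v + v = 0 := by rw [← two_smul F v, H.two, zero_smul]

theorem negV (v : V) : -v = v := neg_eq_of_add_eq_zero_left (H.addV v)

theorem subV (v w : V) : v - w = v + w := by rw [sub_eq_add_neg, H.negV]

theorem neg (t : F) : -t = t := neg_eq_of_add_eq_zero_left (H.add_self t)

/-- the span of `f 0, ..., f (k - 1)` -/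
def Fs (k : ℕ) : Submodule F V where
  carrier := {y | ∀ j, j + k < 2 * n + 2 → h y (f j) = 0}
  add_mem' := by
    intro u v hu hv j hj
    rw [H.add_left, hu j hj, hv j hj, add_zero]
  zero_mem' := fun j _ => H.zero_left _
  smul_mem' := by
    intro a v hv j hj
    rw [H.smul_left, hv j hj, mul_zero]

theorem mem_Fs {k : ℕ} {y : V} : y ∈ H.Fs k ↔ ∀ j, j + k < 2 * n + 2 → h y (f j) = 0 := Iff.rfl

theorem Fs_mono {k k' : ℕ} (hk : k ≤ k') : H.Fs k ≤ H.Fs k' := fun _ hy j hj => hy j (by omega)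

theorem Fs_top {k : ℕ} (hk : 2 * n + 2 ≤ k) (y : V) : y ∈ H.Fs k := fun j hj => by omega

theorem Fs_zero {y : V} (hy : y ∈ H.Fs 0) : y = 0 := H.nd y fun i hi => hy i (by omega)

theorem f_mem {j k : ℕ} (hjk : j < k) (hj : j < 2 * n + 2) : f j ∈ H.Fs k := fun i hi =>
  H.orth j i hj (by omega) (by omega)

/-- decomposition -/
theorem dec {k : ℕ} (hk : k < 2 * n + 2) {y : V} (hy : y ∈ H.Fs (k + 1)) : ∃ s : F, ∃ w ∈ H.Fs k, y = s • f k + w := by
  have h0 := H.pair k hk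
  refine ⟨h y (f (2 * n + 1 - k)) / h (f k) (f (2 * n + 1 - k)), y - (h y (f (2 * n + 1 - k)) /
    h (f k) (f (2 * n + 1 - k))) • f k, ?_, by abel⟩
  intro j hj
  rw [H.subV, H.add_left, H.smul_left]
  by_cases hj1 : j = 2 * n + 1 - k
  · subst hj1
    rw [div_mul_cancel₀ _ h0, H.add_self]
  · rw [hy j (by omega), H.orth k j hk (by omega) (by omega), mul_zero, add_zero]

/-- orthogonality -/
theorem perp {a b : ℕ} (hab : a + b ≤ 2 * n + 2) {y w : V} (hy : y ∈ H.Fs a) (hw : w ∈ H.Fs b) : h y w = 0 := by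
  induction b generalizing w with
  | zero => rw [H.Fs_zero hw, H.comm, H.zero_left]
  | succ b ih =>
    obtain ⟨s, w', hw', rfl⟩ := H.dec (by omega) hw
    rw [H.add_right, H.smul_right, hy b (by omega), ih (by omega) hw', mul_zero, add_zero]

theorem perp_f {a i : ℕ} (hai : a + i < 2 * n + 2) {y : V} (hy : y ∈ H.Fs a) : h y (f i) = 0 := hy i (by omega)

theorem q_zero {k : ℕ} (hk : k ≤ n) {y : V} (hy : y ∈ H.Fs k) : q y = 0 := by
  induction k generalizing y with
  | zero =>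
    rw [H.Fs_zero hy]
    have := H.qsmul 0 0
    rwa [zero_smul, zero_mul, zero_mul] at this
  | succ k ih =>
    obtain ⟨s, w, hw, rfl⟩ := H.dec (by omega) hy
    rw [H.qadd, H.qsmul, H.sing k (by omega), ih (by omega) hw, H.smul_left, H.comm, hw k (by omega)]
    ring

/-- unipotent on the flag -/
def Uni (g : V ≃ₗ[F] V) : Prop := ∀ k, k < 2 * n + 2 → ∀ y ∈ H.Fs (k + 1), g y + y ∈ H.Fs k

variable {H}

theorem Uni.mem {g : V ≃ₗ[F] V} (hg : H.Uni g) {k : ℕ} {y : V} (hy : y ∈ H.Fs k) : g y ∈ H.Fs k := by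
  rcases Nat.eq_zero_or_pos k with rfl | hk
  · rw [H.Fs_zero hy, map_zero]; exact zero_mem _
  · by_cases hk2 : 2 * n + 2 ≤ k
    · exact H.Fs_top hk2 _
    · obtain ⟨k, rfl⟩ : ∃ k', k = k' + 1 := ⟨k - 1, by omega⟩
      have h1 := H.Fs_mono (Nat.le_succ k) (hg k (by omega) y hy)
      have h2 := add_mem h1 hy
      rwa [add_assoc, H.addV, add_zero] at h2

variable (H)

end Fl

/-- the Siegel element `E(f i, s f k)` -/
def Sieg (h : V → V → F) (q : V → F) (f : ℕ → V) (i k : ℕ) (s : F) (g : V ≃ₗ[F] V) : Prop :=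
  ∀ y, g y = y + (s * h y (f i)) • f k + (s * h y (f k)) • f i + (s * s * q (f k) * h y (f i)) • f i

namespace Fl

variable {h : V → V → F} {q : V → F} {f : ℕ → V} {n : ℕ} (H : Fl h q f n) {i k : ℕ} {s s' : F}
  {g g' : V ≃ₗ[F] V}

include H

theorem sieg_h (hi : i < 2 * n + 2) (hk : k < 2 * n + 2) (hikn : i + k ≠ 2 * n + 1)
    (hg : Sieg h q f i k s g) (y : V) : h (g y) (f i) = h y (f i) ∧ h (g y) (f k) = h y (f k) := by
  have e1 := H.orth k i hk hi (by omega)
  have e2 := H.orth i k hi hk hikn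
  rw [hg y]
  simp only [H.add_left, H.smul_left, e1, e2, H.self, mul_zero, add_zero, and_self]

theorem sieg_mul (hi : i < 2 * n + 2) (hk : k < 2 * n + 2) (hikn : i + k ≠ 2 * n + 1)
    (hg : Sieg h q f i k s g) (hg' : Sieg h q f i k s' g') : Sieg h q f i k (s + s') (g * g') := by
  intro y
  obtain ⟨h1, h2⟩ := H.sieg_h hi hk hikn hg' y
  show g (g' y) = _
  rw [hg (g' y), h1, h2, hg' y]
  have e : (s + s') * (s + s') = s * s + s' * s' := by
    have : (s + s') * (s + s') = s * s + s' * s' + 2 * s * s' := by ring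
    rw [this, H.two]; ring
  rw [e]
  module

theorem sieg_one : Sieg h q f i k 0 (1 : V ≃ₗ[F] V) := by
  intro y
  show y = _
  simp

theorem sieg_unique (hg : Sieg h q f i k s g) (hg' : Sieg h q f i k s g') : g = g' := by
  ext y
  rw [hg, hg']

/-- on `Fs (2n + 2 - i)` -/
theorem sieg_mem (hi : i < 2 * n + 2) (hk : k < 2 * n + 2) (hik : i < k) (hg : Sieg h q f i k s g) (y : V) :
    g y + y ∈ H.Fs (k + 1) := by
  have e : g y + y = (s * h y (f i)) • f k + (s * h y (f k)) • f i + (s * s * q (f k) * h y (f i)) • f i := by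
    rw [hg y]
    have := H.addV y
    calc y + (s * h y (f i)) • f k + (s * h y (f k)) • f i + (s * s * q (f k) * h y (f i)) • f i + y
        = (y + y) + ((s * h y (f i)) • f k + (s * h y (f k)) • f i + (s * s * q (f k) * h y (f i)) • f i) := by abel
      _ = _ := by rw [this, zero_add]
  rw [e]
  have h1 : f k ∈ H.Fs (k + 1) := H.f_mem (by omega) hk
  have h2 : f i ∈ H.Fs (k + 1) := H.f_mem (by omega) hi
  exact add_mem (add_mem (Submodule.smul_mem _ _ h1) (Submodule.smul_mem _ _ h2)) (Submodule.smul_mem _ _ h2)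

theorem sieg_mem' (hi : i < 2 * n + 2) (hg : Sieg h q f i k s g) {y : V} (hy : h y (f i) = 0) :
    g y + y ∈ H.Fs (i + 1) := by
  have e : g y + y = (s * h y (f k)) • f i := by
    rw [hg y, hy, mul_zero, mul_zero, zero_smul, zero_smul, add_zero, add_zero]
    calc y + (s * h y (f k)) • f i + y = (y + y) + (s * h y (f k)) • f i := by abel
      _ = _ := by rw [H.addV, zero_add]
  rw [e]
  exact Submodule.smul_mem _ _ (H.f_mem (by omega) hi)

/-- **STAR**: an isometry, unipotent on the flag, commuting with `E(f i, s f k)`, `s ≠ 0`, commutes with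
`E(f i, s' f k)`. -/
theorem star (hi : i < n) (hik : i < k) (hk : k < 2 * n + 1 - i) (hs : s ≠ 0)
    (hg : Sieg h q f i k s g) (hg' : Sieg h q f i k s' g') {y : V ≃ₗ[F] V} (hy : Iso h q y) (hu : H.Uni y)
    (hc : ∀ v, y (g v) = g (y v)) : ∀ v, y (g' v) = g' (y v) := by
  by_cases hq : q (f k) = 0
  · -- linear case
    intro v
    have h1 := hc v
    rw [hg, hg, hq] at h1
    rw [hg', hg', hq]
    simp only [map_add, map_smul, mul_zero, zero_mul, zero_smul, add_zero] at h1 ⊢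
    have h2 : s • (h v (f i) • y (f k) + h v (f k) • y (f i)) =
        s • (h (y v) (f i) • f k + h (y v) (f k) • f i) := by
      rw [smul_add, smul_add, smul_smul, smul_smul, smul_smul, smul_smul]
      rw [add_assoc, add_assoc] at h1
      exact add_left_cancel h1
    have h3 := smul_right_injective V hs h2
    have h4 := congrArg (fun w => s' • w) h3
    simp only [smul_add, smul_smul] at h4
    rw [add_assoc, add_assoc, h4]
  · -- `y (f i) = f i`
    have hfi : y (f i) = f i := by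
      have h0 := H.pair k (by omega)
      have e1 : h (f (2 * n + 1 - k)) (f i) = 0 := H.orth _ _ (by omega) (by omega) (by omega)
      have h1 := hc (f (2 * n + 1 - k))
      rw [hg, hg, e1, mul_zero, mul_zero, zero_smul, zero_smul, add_zero, add_zero, map_add, map_smul] at h1
      rw [add_assoc, add_assoc] at h1
      have h2 := add_left_cancel h1
      rw [H.comm (f k)] at h0
      obtain ⟨c, hcdef⟩ : ∃ c, c = s * h (f (2 * n + 1 - k)) (f k) := ⟨_, rfl⟩
      have hc0 : c ≠ 0 := by rw [hcdef]; exact mul_ne_zero hs h0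
      rw [← hcdef] at h2
      have h3 : y (f i) = (c⁻¹ * (s * h (y (f (2 * n + 1 - k))) (f i))) • f k +
          (c⁻¹ * (s * h (y (f (2 * n + 1 - k))) (f k) + s * s * q (f k) * h (y (f (2 * n + 1 - k))) (f i))) • f i := by
        have h4 := congrArg (fun w => c⁻¹ • w) h2
        simp only [smul_add, smul_smul] at h4
        rw [inv_mul_cancel₀ hc0, one_smul] at h4
        rw [h4, mul_add, add_smul]
      obtain ⟨α, hα⟩ : ∃ α, α = c⁻¹ * (s * h (y (f (2 * n + 1 - k))) (f i)) := ⟨_, rfl⟩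
      obtain ⟨β, hβ⟩ : ∃ β, β = c⁻¹ * (s * h (y (f (2 * n + 1 - k))) (f k) +
        s * s * q (f k) * h (y (f (2 * n + 1 - k))) (f i)) := ⟨_, rfl⟩
      rw [← hα, ← hβ] at h3
      have h5 : q (y (f i)) = 0 := by rw [hy.q, H.sing i hi]
      rw [h3, H.qadd, H.qsmul, H.qsmul, H.sing i hi, H.smul_left, H.smul_right, H.orth k i (by omega) (by omega)
        (by omega), mul_zero, mul_zero, mul_zero, add_zero, add_zero] at h5
      have h6 : α = 0 := by
        rcases mul_eq_zero.1 h5 with h7 | h7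
        · exact mul_self_eq_zero.1 h7
        · exact absurd h7 hq
      rw [h6, zero_smul, zero_add] at h3
      -- `β = 1`
      have h7 := hu i (by omega) (f i) (H.f_mem (by omega) (by omega))
      rw [h3] at h7
      have h8 := h7 (2 * n + 1 - i) (by omega)
      rw [H.add_left, H.smul_left] at h8
      have h9 := H.pair i (by omega)
      have h10 : (β + 1) * h (f i) (f (2 * n + 1 - i)) = 0 := by rw [add_mul, one_mul]; exact h8
      have h11 := (mul_eq_zero.1 h10).resolve_right h9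
      have h12 : β = 1 := by
        have := eq_neg_of_add_eq_zero_left h11
        rwa [H.neg] at this
      rw [h3, h12, one_smul]
    have e1 : ∀ v, h (y v) (f i) = h v (f i) := by
      intro v
      conv_lhs => rw [← hfi]
      rw [hy.h]
    -- `y (f k) = f k + c f i`
    intro v
    have h1 := hc v
    rw [hg, hg] at h1
    rw [hg', hg']
    simp only [map_add, map_smul, hfi, e1] at h1 ⊢
    have h2 : s • (h v (f i) • y (f k) + h v (f k) • f i) = s • (h v (f i) • f k + h (y v) (f k) • f i) := by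
      have h3 := add_right_cancel h1
      rw [smul_add, smul_add, smul_smul, smul_smul, smul_smul, smul_smul]
      rw [add_assoc, add_assoc] at h3
      exact add_left_cancel h3
    have h3 := smul_right_injective V hs h2
    have h4 := congrArg (fun w => s' • w) h3
    simp only [smul_add, smul_smul] at h4
    have h5 : y v + (s' * h v (f i)) • y (f k) + (s' * h v (f k)) • f i =
        y v + (s' * h v (f i)) • f k + (s' * h (y v) (f k)) • f i := by
      rw [add_assoc, add_assoc, h4]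
    rw [h5]

end Fl

end Cfsg.Agent.OddHalf.D4.MinusB

end

-- merged: Cfsg.Agent.OddHalf.D4.MinusB.FlagChain
section

/-!
# ODD, D4, (1B): the chain of lines of a unipotent isometry group

helper328. `Dat.chain` : a group `T` of isometries, unipotent on the flag, containing the Siegel elements
`E(f i, s f k)`, is built from its lines `{E(f i, s f k) : s ∈ F}`.
-/

set_option autoImplicit false
set_option linter.unusedSectionVars false

namespace Cfsg.Agent.OddHalf.D4.MinusB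

variable {F V : Type*} [Field F] [AddCommGroup V] [Module F V] {h : V → V → F} {q : V → F} {f : ℕ → V} {n : ℕ}
  {H : Fl h q f n} {Γ : Type*} [Group Γ]

/-- The data. -/
structure Dat (H : Fl h q f n) (ψ : Γ →* (V ≃ₗ[F] V)) (T : Subgroup Γ) : Prop where
  inj : Function.Injective ψ
  iso : ∀ u ∈ T, Iso h q (ψ u)
  uni : ∀ u ∈ T, H.Uni (ψ u)
  top : ∀ u ∈ T, ∀ y ∈ H.Fs (n + 2), ψ u y + y ∈ H.Fs n
  line : ∀ i k, i < n → i < k → k < 2 * n + 1 - i → ∀ s : F, ∃ x ∈ T, Sieg h q f i k s (ψ x)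

variable {ψ : Γ →* (V ≃ₗ[F] V)} {T : Subgroup Γ} (D : Dat H ψ T)

include D

theorem mul_ap (u v : Γ) (y : V) : ψ (u * v) y = ψ u (ψ v y) := by rw [map_mul]; rfl

theorem inv_ap (u : Γ) (y : V) : ψ u (ψ u⁻¹ y) = y := by
  rw [← mul_ap D, mul_inv_cancel, map_one]; rfl

theorem inv_ap' (u : Γ) (y : V) : ψ u⁻¹ (ψ u y) = y := by
  rw [← mul_ap D, inv_mul_cancel, map_one]; rfl

/-- `{u ∈ T : (u - 1) F_a ≤ F_b}` -/
def DD (a b : ℕ) : Subgroup Γ where
  carrier := {u | u ∈ T ∧ ∀ y ∈ H.Fs a, ψ u y + y ∈ H.Fs b}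
  mul_mem' := by
    rintro u v ⟨hu, hu'⟩ ⟨hv, hv'⟩
    refine ⟨mul_mem hu hv, fun y hy => ?_⟩
    rw [mul_ap D]
    have h1 := hu' _ ((D.uni v hv).mem hy)
    have h2 := add_mem h1 (hv' y hy)
    have e : ψ u (ψ v y) + ψ v y + (ψ v y + y) = ψ u (ψ v y) + y := by
      calc ψ u (ψ v y) + ψ v y + (ψ v y + y) = ψ u (ψ v y) + (ψ v y + ψ v y) + y := by abel
        _ = _ := by rw [H.addV, add_zero]
    rwa [e] at h2
  one_mem' := by
    refine ⟨one_mem _, fun y _ => ?_⟩
    rw [map_one]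
    show y + y ∈ _
    rw [H.addV]; exact zero_mem _
  inv_mem' := by
    rintro u ⟨hu, hu'⟩
    refine ⟨inv_mem hu, fun y hy => ?_⟩
    have h1 := hu' _ ((D.uni _ (inv_mem hu)).mem hy)
    rwa [inv_ap D, add_comm] at h1

theorem mem_DD {a b : ℕ} {u : Γ} : u ∈ DD D a b ↔ u ∈ T ∧ ∀ y ∈ H.Fs a, ψ u y + y ∈ H.Fs b := Iff.rfl

/-- the line -/
def LL (i k : ℕ) (hi : i < n) (hik : i < k) (hk : k < 2 * n + 1 - i) : Subgroup Γ where
  carrier := {u | u ∈ T ∧ ∃ s, Sieg h q f i k s (ψ u)}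
  mul_mem' := by
    rintro u v ⟨hu, s, hs⟩ ⟨hv, s', hs'⟩
    refine ⟨mul_mem hu hv, s + s', ?_⟩
    rw [map_mul]
    exact H.sieg_mul (by omega) (by omega) (by omega) hs hs'
  one_mem' := ⟨one_mem _, 0, by rw [map_one]; exact H.sieg_one⟩
  inv_mem' := by
    rintro u ⟨hu, s, hs⟩
    refine ⟨inv_mem hu, s, ?_⟩
    have h1 := H.sieg_mul (by omega) (by omega) (by omega) hs hs
    rw [H.add_self, ← map_mul] at h1
    have h2 : ψ (u * u) = 1 := H.sieg_unique h1 H.sieg_one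
    have h3 : u * u = 1 := D.inj (by rw [h2, map_one])
    rw [inv_eq_of_mul_eq_one_left h3]
    exact hs

theorem mem_LL {i k : ℕ} {hi : i < n} {hik : i < k} {hk : k < 2 * n + 1 - i} {u : Γ} :
    u ∈ LL D i k hi hik hk ↔ u ∈ T ∧ ∃ s, Sieg h q f i k s (ψ u) := Iff.rfl

theorem sieg_sq {i k : ℕ} (hi : i < n) (hik : i < k) (hk : k < 2 * n + 1 - i) {s : F} {u : Γ}
    (hs : Sieg h q f i k s (ψ u)) : u * u = 1 := by
  have h1 := H.sieg_mul (by omega) (by omega) (by omega) hs hs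
  rw [H.add_self, ← map_mul] at h1
  have h2 : ψ (u * u) = 1 := H.sieg_unique h1 H.sieg_one
  exact D.inj (by rw [h2, map_one])

/-- the groups of the chain -/
def DI (i k : ℕ) : Subgroup Γ := DD D (2 * n + 2 - i) k ⊓ DD D (2 * n + 1 - i) (i + 1)

/-- (1) -/
theorem DI_start {i : ℕ} (hi : i < n) : DI D i (i + 1) = DD D (2 * n + 2 - i) i := by
  apply le_antisymm
  · rintro u ⟨⟨hu, h1⟩, -, h2⟩
    refine ⟨hu, ?_⟩
    have hI := D.iso u hu
    -- on `f := f (2 n + 1 - i)`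
    have hfm : f (2 * n + 1 - i) ∈ H.Fs (2 * n + 2 - i) := H.f_mem (by omega) (by omega)
    have hp := H.pair i (by omega)
    obtain ⟨c, w, hw, e⟩ := H.dec (by omega) (h1 _ hfm)
    have hc : c = 0 := by
      have h3 := hI.q (f (2 * n + 1 - i))
      have e1 : ψ u (f (2 * n + 1 - i)) = f (2 * n + 1 - i) + (c • f i + w) := by
        rw [← e]
        calc ψ u (f (2 * n + 1 - i)) = ψ u (f (2 * n + 1 - i)) + 0 := by rw [add_zero]
          _ = ψ u (f (2 * n + 1 - i)) + (f (2 * n + 1 - i) + f (2 * n + 1 - i)) := by rw [H.addV]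
          _ = _ := by abel
      have hm : c • f i + w ∈ H.Fs (i + 1) := add_mem (Submodule.smul_mem _ _ (H.f_mem (by omega) (by omega)))
        (H.Fs_mono (Nat.le_succ i) hw)
      have h4 : h (f (2 * n + 1 - i)) w = 0 := H.perp (a := 2 * n + 2 - i) (b := i) (by omega) hfm hw
      rw [e1, H.qadd, H.q_zero (by omega) hm, H.add_right, H.smul_right, h4, add_zero, add_zero] at h3
      have h5 : c * h (f (2 * n + 1 - i)) (f i) = 0 := add_eq_left.1 h3
      rw [H.comm] at h5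
      exact (mul_eq_zero.1 h5).resolve_right hp
    have hw' : ψ u (f (2 * n + 1 - i)) + f (2 * n + 1 - i) ∈ H.Fs i := by
      rw [e, hc, zero_smul, zero_add]; exact hw
    -- on `F (2 n + 1 - i)`
    have key : ∀ y ∈ H.Fs (2 * n + 1 - i), ψ u y + y ∈ H.Fs i := by
      intro y hy
      obtain ⟨d, w2, hw2, e2⟩ := H.dec (by omega) (h2 y hy)
      have e3 : ψ u y = y + (d • f i + w2) := by
        rw [← e2]
        calc ψ u y = ψ u y + 0 := by rw [add_zero]
          _ = ψ u y + (y + y) := by rw [H.addV]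
          _ = _ := by abel
      have e4 : ψ u (f (2 * n + 1 - i)) = f (2 * n + 1 - i) + (ψ u (f (2 * n + 1 - i)) + f (2 * n + 1 - i)) := by
        calc ψ u (f (2 * n + 1 - i)) = ψ u (f (2 * n + 1 - i)) + 0 := by rw [add_zero]
          _ = ψ u (f (2 * n + 1 - i)) + (f (2 * n + 1 - i) + f (2 * n + 1 - i)) := by rw [H.addV]
          _ = _ := by abel
      obtain ⟨w', hw'def⟩ : ∃ w', w' = ψ u (f (2 * n + 1 - i)) + f (2 * n + 1 - i) := ⟨_, rfl⟩
      rw [← hw'def] at e4 hw'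
      have h3 := hI.h y (f (2 * n + 1 - i))
      rw [e3, e4] at h3
      have p1 : h y w' = 0 := H.perp (a := 2 * n + 1 - i) (b := i) (by omega) hy hw'
      have p2 : h (f i) w' = 0 := H.perp (a := i + 1) (b := i) (by omega) (H.f_mem (by omega) (by omega)) hw'
      have p3 : h w2 (f (2 * n + 1 - i)) = 0 := by
        rw [H.comm]
        exact H.perp (a := 2 * n + 2 - i) (b := i) (by omega) hfm hw2
      have p4 : h w2 w' = 0 := H.perp (a := i) (b := i) (by omega) hw2 hw'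
      rw [H.add_left, H.add_left, H.smul_left, H.add_right, H.add_right, H.add_right, p1, p2, p3, p4] at h3
      simp only [add_zero] at h3
      have h5 : d * h (f i) (f (2 * n + 1 - i)) = 0 := add_eq_left.1 h3
      have h6 : d = 0 := (mul_eq_zero.1 h5).resolve_right hp
      rw [e2, h6, zero_smul, zero_add]
      exact hw2
    intro y hy
    obtain ⟨a, y', hy', rfl⟩ := H.dec (k := 2 * n + 1 - i) (by omega) (y := y)
      (by rwa [show 2 * n + 1 - i + 1 = 2 * n + 2 - i by omega])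
    have h7 := key y' hy'
    rw [map_add, map_smul]
    have e5 : a • ψ u (f (2 * n + 1 - i)) + ψ u y' + (a • f (2 * n + 1 - i) + y') =
        a • (ψ u (f (2 * n + 1 - i)) + f (2 * n + 1 - i)) + (ψ u y' + y') := by
      rw [smul_add]; abel
    rw [e5]
    exact add_mem (Submodule.smul_mem _ _ hw') h7
  · rintro u ⟨hu, h1⟩
    refine ⟨⟨hu, fun y hy => H.Fs_mono (Nat.le_succ i) (h1 y hy)⟩, hu, fun y hy => ?_⟩
    exact H.Fs_mono (Nat.le_succ i) (h1 y (H.Fs_mono (by omega) hy))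

/-- (2) -/
theorem DI_end {i : ℕ} (hi : i < n) : DI D i (2 * n + 1 - i) = DD D (2 * n + 2 - (i + 1)) (i + 1) := by
  have e : 2 * n + 2 - (i + 1) = 2 * n + 1 - i := by omega
  rw [e]
  apply le_antisymm inf_le_right
  rintro u ⟨hu, h1⟩
  refine ⟨⟨hu, fun y hy => ?_⟩, hu, h1⟩
  exact D.uni u hu (2 * n + 1 - i) (by omega) y (by rwa [show 2 * n + 1 - i + 1 = 2 * n + 2 - i by omega])

/-- (4) -/
theorem DD_bot : DD D (2 * n + 2 - 0) 0 = ⊥ := by
  rw [eq_bot_iff]
  rintro u ⟨_, h1⟩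
  rw [Subgroup.mem_bot]
  apply D.inj
  rw [map_one]
  ext y
  have h2 := H.Fs_zero (h1 y (H.Fs_top (by omega) y))
  show ψ u y = y
  have := eq_neg_of_add_eq_zero_left h2
  rwa [H.negV] at this

theorem DD_top : DD D (2 * n + 2 - n) n = T := by
  apply le_antisymm (fun u hu => hu.1)
  intro u hu
  exact ⟨hu, fun y hy => D.top u hu y (by rwa [show 2 * n + 2 - n = n + 2 by omega] at hy)⟩

theorem LL_le {i k : ℕ} (hi : i < n) (hik : i < k) (hk : k < 2 * n + 1 - i) :
    LL D i k hi hik hk ≤ DI D i (k + 1) := by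
  rintro u ⟨hu, s, hs⟩
  refine ⟨⟨hu, fun y _ => H.sieg_mem (by omega) (by omega) hik hs y⟩, hu, fun y hy => ?_⟩
  exact H.sieg_mem' (by omega) hs (H.perp_f (a := 2 * n + 1 - i) (by omega) hy)

theorem DI_mono {i k : ℕ} : DI D i k ≤ DI D i (k + 1) := by
  rintro u ⟨⟨hu, h1⟩, h2⟩
  exact ⟨⟨hu, fun y hy => H.Fs_mono (Nat.le_succ k) (h1 y hy)⟩, h2⟩

/-- the coefficient of a line element -/
theorem sieg_coef {i k : ℕ} (hi : i < n) (hik : i < k) (hk : k < 2 * n + 1 - i) {s : F} {u : Γ}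
    (hs : Sieg h q f i k s (ψ u)) (hu : u ∈ DI D i k) : s = 0 := by
  have h1 := hu.1.2 (f (2 * n + 1 - i)) (H.f_mem (by omega) (by omega))
  have h2 := h1 (2 * n + 1 - k) (by omega)
  have e0 := H.pair i (by omega)
  have e1 := H.pair k (by omega)
  have e2 : h (f (2 * n + 1 - i)) (f k) = 0 := H.orth _ _ (by omega) (by omega) (by omega)
  have e3 : h (f i) (f (2 * n + 1 - k)) = 0 := H.orth _ _ (by omega) (by omega) (by omega)
  rw [hs, e2, mul_zero, zero_smul, add_zero] at h2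
  simp only [H.add_left, H.smul_left, e3, mul_zero, add_zero] at h2
  have h3 : s * h (f (2 * n + 1 - i)) (f i) * h (f k) (f (2 * n + 1 - k)) = 0 := by
    have h4 : h (f (2 * n + 1 - i)) (f (2 * n + 1 - k)) +
        s * h (f (2 * n + 1 - i)) (f i) * h (f k) (f (2 * n + 1 - k)) +
        h (f (2 * n + 1 - i)) (f (2 * n + 1 - k)) =
        s * h (f (2 * n + 1 - i)) (f i) * h (f k) (f (2 * n + 1 - k)) +
        (h (f (2 * n + 1 - i)) (f (2 * n + 1 - k)) + h (f (2 * n + 1 - i)) (f (2 * n + 1 - k))) := by ring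
    rw [h4, H.add_self, add_zero] at h2
    exact h2
  rw [H.comm] at e0
  exact (mul_eq_zero.1 ((mul_eq_zero.1 h3).resolve_right e1)).resolve_right e0

/-- (3) -/
theorem DI_step {i k : ℕ} (hi : i < n) (hik : i < k) (hk : k < 2 * n + 1 - i) :
    DI D i (k + 1) = DI D i k ⊔ LL D i k hi hik hk := by
  apply le_antisymm _ (sup_le (DI_mono D) (LL_le D hi hik hk))
  rintro u ⟨⟨hu, h1⟩, -, h2⟩
  have hfm : f (2 * n + 1 - i) ∈ H.Fs (2 * n + 2 - i) := H.f_mem (by omega) (by omega)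
  have hp := H.pair i (by omega)
  rw [H.comm] at hp
  obtain ⟨c, w, hw, e⟩ := H.dec (by omega) (h1 _ hfm)
  obtain ⟨x, hxT, hx⟩ := D.line i k hi hik hk (c / h (f (2 * n + 1 - i)) (f i))
  have hxL : x ∈ LL D i k hi hik hk := ⟨hxT, _, hx⟩
  have hxx := sieg_sq D hi hik hk hx
  have hux : u * x ∈ DI D i k := by
    have huU := D.uni u hu
    -- on `F (2 n + 1 - i)`
    have hfi : ψ u (f i) ∈ H.Fs (i + 1) := huU.mem (H.f_mem (by omega) (by omega))
    have key : ∀ y ∈ H.Fs (2 * n + 1 - i), ψ (u * x) y + y ∈ H.Fs (i + 1) := by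
      intro y hy
      have h3 := H.sieg_mem' (g := ψ x) (by omega) hx (H.perp_f (a := 2 * n + 1 - i) (by omega) hy)
      have h4 := huU.mem h3
      have h5 := h2 y hy
      rw [mul_ap D]
      rw [map_add] at h4
      have h6 := add_mem h4 h5
      have e2 : ψ u (ψ x y) + ψ u y + (ψ u y + y) = ψ u (ψ x y) + y := by
        calc ψ u (ψ x y) + ψ u y + (ψ u y + y) = ψ u (ψ x y) + (ψ u y + ψ u y) + y := by abel
          _ = _ := by rw [H.addV, add_zero]
      rwa [e2] at h6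
    refine ⟨⟨mul_mem hu hxT, fun y hy => ?_⟩, mul_mem hu hxT, key⟩
    obtain ⟨a, y', hy', rfl⟩ := H.dec (k := 2 * n + 1 - i) (by omega) (y := y)
      (by rwa [show 2 * n + 1 - i + 1 = 2 * n + 2 - i by omega])
    have h7 := H.Fs_mono (show i + 1 ≤ k by omega) (key y' hy')
    have h8 : ψ (u * x) (f (2 * n + 1 - i)) + f (2 * n + 1 - i) ∈ H.Fs k := by
      have e2 : h (f (2 * n + 1 - i)) (f k) = 0 := H.orth _ _ (by omega) (by omega) (by omega)
      rw [mul_ap D, hx, e2, mul_zero, zero_smul, add_zero, div_mul_cancel₀ _ hp, map_add, map_add, map_smul, map_smul]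
      have h9 := H.Fs_mono (show i + 1 ≤ k by omega) hfi
      have h10 : ψ u (f k) + f k ∈ H.Fs k := huU k (by omega) (f k) (H.f_mem (by omega) (by omega))
      have e3 : ψ u (f (2 * n + 1 - i)) + c • ψ u (f k) +
          (c / h (f (2 * n + 1 - i)) (f i) * (c / h (f (2 * n + 1 - i)) (f i)) * q (f k) *
            h (f (2 * n + 1 - i)) (f i)) • ψ u (f i) + f (2 * n + 1 - i) =
          w + c • (ψ u (f k) + f k) +
          (c / h (f (2 * n + 1 - i)) (f i) * (c / h (f (2 * n + 1 - i)) (f i)) * q (f k) *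
            h (f (2 * n + 1 - i)) (f i)) • ψ u (f i) := by
        have e4 : ψ u (f (2 * n + 1 - i)) + f (2 * n + 1 - i) + c • f k = w := by
          rw [e]
          calc c • f k + w + c • f k = w + (c • f k + c • f k) := by abel
            _ = w := by rw [H.addV, add_zero]
        rw [← e4, smul_add]
        have e5 := H.addV (c • f k)
        calc _ = ψ u (f (2 * n + 1 - i)) + f (2 * n + 1 - i) + c • ψ u (f k) +
              (c / h (f (2 * n + 1 - i)) (f i) * (c / h (f (2 * n + 1 - i)) (f i)) * q (f k) *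
              h (f (2 * n + 1 - i)) (f i)) • ψ u (f i) + 0 := by rw [add_zero]; abel
          _ = _ := by rw [← e5]; abel
      rw [e3]
      exact add_mem (add_mem hw (Submodule.smul_mem _ _ h10)) (Submodule.smul_mem _ _ h9)
    rw [map_add, map_smul]
    have e5 : a • ψ (u * x) (f (2 * n + 1 - i)) + ψ (u * x) y' + (a • f (2 * n + 1 - i) + y') =
        a • (ψ (u * x) (f (2 * n + 1 - i)) + f (2 * n + 1 - i)) + (ψ (u * x) y' + y') := by
      rw [smul_add]; abel
    rw [e5]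
    exact add_mem (Submodule.smul_mem _ _ h8) h7
  have e9 : u = u * x * x := by rw [mul_assoc, hxx, mul_one]
  rw [e9]
  exact mul_mem (Subgroup.mem_sup_left hux) (Subgroup.mem_sup_right hxL)

/-! ### the lines -/

variable {A : Subgroup (MulAut Γ)} {φ : MulAut Γ → Prop}

/-- the lifts of the automorphisms -/
structure Lifts (H : Fl h q f n) (ψ : Γ →* (V ≃ₗ[F] V)) (T : Subgroup Γ) (A : Subgroup (MulAut Γ))
    (φ : MulAut Γ → Prop) : Prop where
  norm : ∀ e ∈ A, φ e → ∀ t ∈ T, e t ∈ T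
  lift : ∀ e ∈ A, φ e → ∃ g : V ≃ₗ[F] V, Iso h q g ∧ H.Uni g ∧ ∀ x y, ψ (e x) (g y) = g (ψ x y)

theorem step (hL : Lifts H ψ T A φ) (h4 : ∃ s : F, s ≠ 0 ∧ s ≠ 1) {i k : ℕ} (hi : i < n) (hik : i < k)
    (hk : k < 2 * n + 1 - i) : Step A φ (DI D i k) (LL D i k hi hik hk) where
  sq := by
    rintro x ⟨hx, s, hs⟩
    rw [sieg_sq D hi hik hk hs]; exact one_mem _
  pair := by
    obtain ⟨s, hs0, hs1⟩ := h4
    obtain ⟨a, haT, ha⟩ := D.line i k hi hik hk 1
    obtain ⟨b, hbT, hb⟩ := D.line i k hi hik hk s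
    refine ⟨a, ⟨haT, _, ha⟩, b, ⟨hbT, _, hb⟩, fun h1 => one_ne_zero (sieg_coef D hi hik hk ha h1),
      fun h1 => hs0 (sieg_coef D hi hik hk hb h1), fun h1 => ?_⟩
    have h2 := sieg_sq D hi hik hk ha
    rw [inv_eq_of_mul_eq_one_left h2] at h1
    have h3 := H.sieg_mul (by omega) (by omega) (by omega) ha hb
    rw [← map_mul] at h3
    have h5 := sieg_coef D hi hik hk h3 h1
    have h6 := eq_neg_of_add_eq_zero_left h5
    rw [H.neg] at h6
    exact hs1 h6.symm
  star := by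
    rintro y hyA hyφ hyy x ⟨hx, s, hs⟩ hxD hxy x' ⟨hx', s', hs'⟩
    obtain ⟨g, hgI, hgU, hg⟩ := hL.lift y hyA hyφ
    have hs0 : s ≠ 0 := by
      rintro rfl
      apply hxD
      have : x = 1 := D.inj (by rw [map_one]; exact H.sieg_unique hs H.sieg_one)
      rw [this]; exact one_mem _
    have h1 := H.star hi hik hk hs0 hs hs' hgI hgU (fun v => by rw [← hg, hxy])
    apply D.inj
    ext v
    obtain ⟨w, rfl⟩ := g.surjective v
    rw [hg, h1]
  fix := by
    rintro x ⟨hx, s, hs⟩ e heA heφ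
    obtain ⟨g, hgI, hgU, hg⟩ := hL.lift e heA heφ
    have hexT : e x ∈ T := hL.norm e heA heφ x hx
    have hxx := sieg_sq D hi hik hk hs
    have hxi : x⁻¹ = x := inv_eq_of_mul_eq_one_left hxx
    have huT : e x * x⁻¹ ∈ T := mul_mem hexT (inv_mem hx)
    have hxU := D.uni x hx
    have hfi : f i ∈ H.Fs (i + 1) := H.f_mem (by omega) (by omega)
    -- reduction
    have red : ∀ a b : ℕ, (∀ z ∈ H.Fs a, g (ψ x z) + ψ x (g z) ∈ H.Fs b) → ∀ y ∈ H.Fs a,
        ψ (e x * x⁻¹) y + y ∈ H.Fs b := by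
      intro a b hab y hy
      have h1 : ψ x y ∈ H.Fs a := hxU.mem hy
      obtain ⟨z, hz⟩ := g.surjective (ψ x y)
      have hzm : z ∈ H.Fs a := by
        -- `g⁻¹` preserves the flag
        have hfin : ∀ c : ℕ, ∀ v, g v ∈ H.Fs c → v ∈ H.Fs c := by
          intro c
          have hle : (H.Fs c).map (g : V →ₗ[F] V) ≤ H.Fs c := by
            rintro _ ⟨v, hv, rfl⟩
            exact hgU.mem hv
          intro v hv
          -- peel: `v ∈ Fs m` for all `m ≥ c`
          have hm : ∀ m, v ∈ H.Fs (c + m) → v ∈ H.Fs c := by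
            intro m
            induction m with
            | zero => exact fun h => h
            | succ m ih =>
              intro h
              by_cases hcm : c + m < 2 * n + 2
              · apply ih
                have h2 := hgU (c + m) hcm v h
                have h3 := add_mem h2 (H.Fs_mono (show c ≤ c + m by omega) hv)
                have e2 : g v + v + g v = v := by
                  calc g v + v + g v = v + (g v + g v) := by abel
                    _ = v := by rw [H.addV, add_zero]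
                rwa [e2] at h3
              · apply ih
                exact H.Fs_top (by omega) v
          exact hm (2 * n + 2) (H.Fs_top (by omega) v)
        exact hfin a z (by rw [hz]; exact h1)
      have h3 := hab z hzm
      rw [mul_ap D, hxi, ← hz, hg]
      have e2 : ψ x (g z) = y := by rw [hz, ← mul_ap D, hxx, map_one]; rfl
      rwa [e2] at h3
    -- the difference
    have hdiff : ∀ z, h (g z) (f i) = h z (f i) → g (ψ x z) + ψ x (g z) =
        (s * h z (f i)) • (g (f k) + f k) + ((s * h z (f k) + s * s * q (f k) * h z (f i)) • g (f i) +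
          (s * h (g z) (f k) + s * s * q (f k) * h z (f i)) • f i) := by
      intro z hz
      rw [hs, hs, hz]
      simp only [map_add, map_smul, smul_add, add_smul]
      have e2 := H.addV (g z)
      calc _ = (g z + g z) + ((s * h z (f i)) • g (f k) + (s * h z (f i)) • f k + ((s * h z (f k)) • g (f i) +
            (s * s * q (f k) * h z (f i)) • g (f i) + ((s * h (g z) (f k)) • f i +
              (s * s * q (f k) * h z (f i)) • f i))) := by abel
        _ = _ := by rw [e2, zero_add]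
    have hperp : ∀ z ∈ H.Fs (2 * n + 2 - i), h (g z) (f i) = h z (f i) := by
      intro z hz
      have h1 := hgU (2 * n + 1 - i) (by omega) z (by rwa [show 2 * n + 1 - i + 1 = 2 * n + 2 - i by omega])
      have h2 := H.perp_f (i := i) (by omega) h1
      rw [H.add_left] at h2
      have h3 := eq_neg_of_add_eq_zero_left h2
      rwa [H.neg] at h3
    have hgi : g (f i) ∈ H.Fs (i + 1) := hgU.mem hfi
    refine ⟨⟨huT, red _ _ fun z hz => ?_⟩, huT, red _ _ fun z hz => ?_⟩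
    · rw [hdiff z (hperp z hz)]
      refine add_mem (Submodule.smul_mem _ _ (hgU k (by omega) _ (H.f_mem (by omega) (by omega)))) (add_mem ?_ ?_)
      · exact Submodule.smul_mem _ _ (H.Fs_mono (by omega) hgi)
      · exact Submodule.smul_mem _ _ (H.Fs_mono (by omega) hfi)
    · rw [hdiff z (hperp z (H.Fs_mono (by omega) hz)), H.perp_f (a := 2 * n + 1 - i) (by omega) hz, mul_zero, mul_zero,
        zero_smul, zero_add, add_zero, add_zero]
      exact add_mem (Submodule.smul_mem _ _ hgi) (Submodule.smul_mem _ _ hfi)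

/-- **The chain.** -/
theorem Dat.chain (hL : Lifts H ψ T A φ) (h4 : ∃ s : F, s ≠ 0 ∧ s ≠ 1) : Chain A φ T := by
  have key : ∀ i, i ≤ n → Chain A φ (DD D (2 * n + 2 - i) i) := by
    intro i
    induction i with
    | zero =>
      intro _
      rw [DD_bot D]
      exact Chain.bot
    | succ i ih =>
      intro hi
      have hi' : i < n := by omega
      have h0 := ih (by omega)
      rw [← DI_start D hi'] at h0
      rw [← DI_end D hi']
      have h1 : ∀ m, i + 1 + m ≤ 2 * n + 1 - i → Chain A φ (DI D i (i + 1 + m)) := by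
        intro m
        induction m with
        | zero => exact fun _ => h0
        | succ m ihm =>
          intro hm
          rw [← add_assoc, DI_step D hi' (by omega) (by omega)]
          exact Chain.step (ihm (by omega)) (step D hL h4 hi' (by omega) (by omega))
      have h2 := h1 (2 * n + 1 - i - (i + 1)) (by omega)
      rwa [show i + 1 + (2 * n + 1 - i - (i + 1)) = 2 * n + 1 - i by omega] at h2
  have h1 := key n le_rfl
  rwa [DD_top D] at h1

end Cfsg.Agent.OddHalf.D4.MinusB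

end

-- merged: Cfsg.Agent.OddHalf.D4.MinusB.Comb
section

/-!
# ODD, D4, (1B), `PΩ⁻`: combinatorics

helper328. `ps x` : the position of a signed index in the flag; `rt_pos` : `rt x y > 0` iff `ps x + ps y < 2n + 1`;
`sym_B` : the diagram `B_n`, `n ≥ 3`, has no symmetries.
-/

set_option autoImplicit false

namespace Cfsg.Agent.OddHalf.D4.MinusB

open CoxeterSystem Cfsg.Agent.ChevalleyStructure.CoxeterGeom Cfsg.Agent.Tits.Roots Cfsg.Agent.Nodes.TypeC
  Cfsg.Agent.Nodes.BNOf Cfsg.Agent.Nodes.KindBC Cfsg.Agent.Nodes.TypeCForm Cfsg.Agent.OddHalf.DblR.MinusComb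

variable {n : ℕ}

/-- the position of a signed index -/
def ps (x : Fin n × Bool) : ℕ := if x.2 then x.1 else 2 * n + 1 - x.1

theorem ps_true (i : Fin n) : ps (i, true) = i := rfl

theorem ps_false (i : Fin n) : ps (i, false) = 2 * n + 1 - i := rfl

theorem ps_lt (x : Fin n × Bool) : ps x < 2 * n + 2 := by
  have := x.1.2
  unfold ps; split_ifs <;> omega

theorem ps_ng (x : Fin n × Bool) : ps x + ps (ng x) = 2 * n + 1 := by
  have := x.1.2
  rcases x with ⟨i, b⟩
  cases b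
  · show 2 * n + 1 - (i : ℕ) + (i : ℕ) = _
    simp only at this
    omega
  · show (i : ℕ) + (2 * n + 1 - (i : ℕ)) = _
    simp only at this
    omega

theorem ps_cases (x : Fin n × Bool) : (x.2 = true ∧ ps x = x.1 ∧ (x.1 : ℕ) < n) ∨
    (x.2 = false ∧ ps x = 2 * n + 1 - x.1 ∧ (x.1 : ℕ) < n) := by
  have := x.1.2
  rcases x with ⟨i, b⟩
  cases b
  · exact Or.inr ⟨rfl, rfl, this⟩
  · exact Or.inl ⟨rfl, rfl, this⟩

theorem ps_inj {x y : Fin n × Bool} (h : ps x = ps y) : x = y := by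
  rcases ps_cases x with ⟨h1, h2, h3⟩ | ⟨h1, h2, h3⟩ <;> rcases ps_cases y with ⟨h4, h5, h6⟩ | ⟨h4, h5, h6⟩
  · exact Prod.ext (Fin.ext (by omega)) (by rw [h1, h4])
  · omega
  · omega
  · exact Prod.ext (Fin.ext (by omega)) (by rw [h1, h4])

theorem ps_add {x y : Fin n × Bool} (h : y ≠ ng x) : ps x + ps y ≠ 2 * n + 1 := by
  intro h1
  have h2 := ps_ng x
  exact h (ps_inj (by omega))

/-- partial sums of a weight -/
theorem sum_wt_Iic (x : Fin n × Bool) (m : Fin n) : ∑ k ∈ Finset.Iic m, wt x k = if x.1 ≤ m then sn x else 0 := by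
  simp only [wt, Finset.sum_pi_single', Finset.mem_Iic]
  rfl

variable {W : Type*} [Group W] (cs : CoxeterSystem (CoxeterMatrix.B n) W)

theorem rt_nonneg {x y : Fin n × Bool} (h : ps x + ps y < 2 * n + 1) : 0 ≤ rt x y := by
  intro m
  show (0 : ℤ) ≤ (∑ k ∈ Finset.Iic m, (wt x + wt y) k) / cc m
  apply Int.ediv_nonneg
  · simp only [Pi.add_apply, Finset.sum_add_distrib, sum_wt_Iic]
    have e1 : ∀ z : Fin n × Bool, z.2 = true → sn z = 1 := fun z hz => sn_eq_one_iff.2 hz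
    have e2 : ∀ z : Fin n × Bool, z.2 = false → sn z = -1 := by
      intro z hz
      rcases sn_eq_one_or z with h1 | h1
      · rw [sn_eq_one_iff, hz] at h1; exact absurd h1 (by decide)
      · exact h1
    simp only [Fin.le_def]
    rcases ps_cases x with ⟨h1, h2, h3⟩ | ⟨h1, h2, h3⟩ <;> rcases ps_cases y with ⟨h4, h5, h6⟩ | ⟨h4, h5, h6⟩
    · rw [e1 x h1, e1 y h4]; split_ifs <;> norm_num
    · rw [e1 x h1, e2 y h4]; split_ifs <;> omega
    · rw [e2 x h1, e1 y h4]; split_ifs <;> omega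
    · omega
  · unfold cc; split_ifs <;> norm_num

theorem rt_pos {x y : Fin n × Bool} (hxy : Ok x y) (h : ps x + ps y < 2 * n + 1) :
    rt x y ∈ RGD.Pos cs (isCartan n) := ⟨isRoot_rt cs hxy, rt_nonneg h⟩

theorem lt_of_pos {x y : Fin n × Bool} (hxy : Ok x y) (h : rt x y ∈ RGD.Pos cs (isCartan n)) :
    ps x + ps y < 2 * n + 1 := by
  have h0 : ps x + ps y ≠ 2 * n + 1 := ps_add (ok_iff.1 hxy)
  by_contra hcon
  have h1 := ps_ng x
  have h2 := ps_ng y
  have h3 := rt_pos cs hxy.ng (show ps (ng x) + ps (ng y) < 2 * n + 1 by omega)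
  rw [rt_ng] at h3
  have h4 : rt x y = 0 := le_antisymm (by have := h3.2; rwa [Left.nonneg_neg_iff] at this) h.2
  exact h.1.ne_zero h4

theorem exists_of_pos {r : Fin n → ℤ} (h : r ∈ RGD.Pos cs (isCartan n)) :
    ∃ x y, Ok x y ∧ r = rt x y ∧ ps x + ps y < 2 * n + 1 := by
  obtain ⟨x, y, hxy, rfl⟩ := exists_rt h.1
  exact ⟨x, y, hxy, rfl, lt_of_pos cs hxy h⟩

/-! ### the diagram -/

theorem B_apply (i j : Fin n) : CoxeterMatrix.B n i j = if i = j then 1 else
    if ((i : ℕ) = n - 1 ∧ (j : ℕ) = n - 2) ∨ ((j : ℕ) = n - 1 ∧ (i : ℕ) = n - 2) then 4 else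
      if (j : ℕ) + 1 = i ∨ (i : ℕ) + 1 = j then 3 else 2 := rfl

theorem B_four {i j : Fin n} (h : CoxeterMatrix.B n i j = 4) :
    ((i : ℕ) = n - 1 ∧ (j : ℕ) = n - 2) ∨ ((j : ℕ) = n - 1 ∧ (i : ℕ) = n - 2) := by
  rw [B_apply] at h
  by_contra hcon
  rw [if_neg hcon] at h
  split_ifs at h <;> omega

theorem B_three {i j : Fin n} (h : CoxeterMatrix.B n i j = 3) :
    ¬ (((i : ℕ) = n - 1 ∧ (j : ℕ) = n - 2) ∨ ((j : ℕ) = n - 1 ∧ (i : ℕ) = n - 2)) ∧
      ((j : ℕ) + 1 = i ∨ (i : ℕ) + 1 = j) := by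
  rw [B_apply] at h
  split_ifs at h with h1 h2 h3
  · omega
  · omega
  · exact ⟨h2, h3⟩
  · omega

/-- The diagram `B_n`, `n ≥ 3`, has no symmetries. -/
theorem sym_B (hn : 3 ≤ n) {σ : Equiv.Perm (Fin n)}
    (hσ : ∀ i j, CoxeterMatrix.B n (σ i) (σ j) = CoxeterMatrix.B n i j) : σ = 1 := by
  let a : Fin n := ⟨n - 1, by omega⟩
  let b : Fin n := ⟨n - 2, by omega⟩
  let c : Fin n := ⟨n - 3, by omega⟩
  have hab : CoxeterMatrix.B n a b = 4 := by
    rw [B_apply, if_neg (fun h => by have := congrArg Fin.val h; simp only [a, b] at this; omega),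
      if_pos (Or.inl ⟨rfl, rfl⟩)]
  have hbc : CoxeterMatrix.B n b c = 3 := by
    rw [B_apply, if_neg (fun h => by have := congrArg Fin.val h; simp only [b, c] at this; omega), if_neg, if_pos]
    · left; simp only [b, c]; omega
    · simp only [b, c]; omega
  have h1 := B_four (show CoxeterMatrix.B n (σ a) (σ b) = 4 by rw [hσ]; exact hab)
  have h2 := B_three (show CoxeterMatrix.B n (σ b) (σ c) = 3 by rw [hσ]; exact hbc)
  have ha : σ a = a ∧ σ b = b := by
    rcases h1 with h1 | h1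
    · exact ⟨Fin.ext h1.1, Fin.ext h1.2⟩
    · exfalso
      have := (σ c).2
      omega
  have key : ∀ m : ℕ, ∀ i j : Fin n, (i : ℕ) + m = n - 2 → (j : ℕ) = i + 1 → σ i = i ∧ σ j = j := by
    intro m
    induction m with
    | zero =>
      intro i j hi hj
      have e1 : i = b := Fin.ext (by simp only [b]; omega)
      have e2 : j = a := Fin.ext (by simp only [a]; omega)
      rw [e1, e2]
      exact ⟨ha.2, ha.1⟩
    | succ m ih =>
      intro i j hi hj
      have hk : (j : ℕ) + 1 < n := by omega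
      obtain ⟨h3, h4⟩ := ih j ⟨(j : ℕ) + 1, hk⟩ (by omega) rfl
      refine ⟨?_, h3⟩
      have h5 : CoxeterMatrix.B n j i = 3 := by
        rw [B_apply, if_neg (fun h => by have := congrArg Fin.val h; omega), if_neg (by omega), if_pos (by omega)]
      have h6 := B_three (show CoxeterMatrix.B n (σ j) (σ i) = 3 by rw [hσ]; exact h5)
      rw [h3] at h6
      have h7 : σ i ≠ ⟨(j : ℕ) + 1, hk⟩ := by
        intro h8
        rw [← h4] at h8
        have := congrArg Fin.val (σ.injective h8)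
        simp only at this
        omega
      have h8 : ((σ i : Fin n) : ℕ) ≠ j + 1 := fun h9 => h7 (Fin.ext h9)
      exact Fin.ext (by omega)
  ext i
  rw [Equiv.Perm.one_apply]
  congr 1
  by_cases hi : (i : ℕ) + 1 < n
  · exact (key (n - 2 - i) i ⟨(i : ℕ) + 1, hi⟩ (by omega) rfl).1
  · have e : i = a := Fin.ext (by simp only [a]; omega)
    rw [e]; exact ha.1

end Cfsg.Agent.OddHalf.D4.MinusB

end

-- merged: Cfsg.Agent.OddHalf.D4.MinusB.Lift
section

/-!
# ODD, D4, (1B), `PΩ⁻`: semilinear lifts of automorphisms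

helper328. `Lf α σ g` : the automorphism `α` is induced by the `σ`-semilinear isometry `g`; `Lf.b`, `Lf.V0` : the lift
of a frame automorphism; `Lf.triv` : the lift of `1` is trivial.
-/

set_option autoImplicit false
set_option linter.unusedSectionVars false

namespace Cfsg.Agent.OddHalf.D4.MinusB

open CoxeterSystem Cfsg.Agent.ChevalleyStructure.CoxeterGeom Cfsg.Agent.Tits.Roots Cfsg.Agent.Nodes.TypeC
  Cfsg.Agent.Tits.RootComb
open Cfsg.Agent.Nodes.Comb Cfsg.Agent.Nodes.Reps Cfsg.Agent.Nodes.WittRoot Cfsg.Agent.Nodes.BNOf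
  Cfsg.Agent.Nodes.StabComb Cfsg.Agent.Nodes.Coroot Cfsg.Agent.Nodes.KindBC Cfsg.Agent.Nodes.TypeCForm
  Cfsg.Agent.Nodes.Bruhat Cfsg.Agent.Nodes.PosPair
open Cfsg.Agent Cfsg.Agent.TitsThree Cfsg.Agent.TitsThree.Siegel Cfsg.Agent.TitsThree.WittFrame
  Cfsg.Agent.TitsThree.WittWeyl Cfsg.Agent.TitsThree.FrameCN Cfsg.Agent.TitsThree.LineBorel
open Cfsg.Agent.KFacts.WittOrth Cfsg.Agent.OddHalf.DblR.MinusComb Cfsg.Agent.OddHalf.DblR.SheetMinus

variable {F : Type*} [Field F] {V : Type*} [AddCommGroup V] [Module F V] {H : HForm F V} {n : ℕ}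
  {Fr : Frame H (Fin n)} {K : Type*} [Group K] {M : Model Fr K}

/-- the quadratic form -/
structure Qd (Fr : Frame H (Fin n)) (q : V → F) : Prop where
  qadd : ∀ v w, q (v + w) = q v + q w + H.h v w
  qsmul : ∀ (a : F) v, q (a • v) = a * a * q v
  qb : ∀ x, q (Fr.b x) = 0
  qok : ∀ w ∈ Fr.V0, Fr.ok w (q w)

/-- the natural representation -/
structure Rep (M : Model Fr K) (q : V → F) (ψ : K →* (V ≃ₗ[F] V)) : Prop where
  inj : Function.Injective ψ
  X : ∀ x y t, ψ (M.X x y t) = Fr.X x y t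
  Z : ∀ x p, ψ (M.Z x p) = Fr.Z x p
  q : ∀ u v, q (ψ u v) = q v

section Formulas

variable (O : KFacts.WittOrth.Orth Fr)

include O

theorem X_ap {x y : Fin n × Bool} (hxy : x.1 ≠ y.1) (t : F) (v : V) :
    Fr.X x y t v = v + (t * H.h v (Fr.b x)) • Fr.b y + (t * H.h v (Fr.b y)) • Fr.b x := by
  rw [X_apply Fr hxy, O.sc, O.ε, O.σ, sub_eq_add_neg, O.negV]
  congr 2
  · rw [mul_comm]
  · rw [inv_one, one_mul]

theorem Z_ap (x : Fin n × Bool) (p : Fr.Adm) (v : V) :
    Fr.Z x p v = v + H.h v (Fr.b x) • p.w + (H.h v p.w) • Fr.b x + (p.c * H.h v (Fr.b x)) • Fr.b x := by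
  rw [Z_apply, O.ε, sub_eq_add_neg, O.negV, inv_one, one_mul]

theorem h_self' {q : V → F} (Q : Qd Fr q) (v : V) : H.h v v = 0 := by
  have h1 := Q.qadd v v
  have h2 := Q.qsmul 0 v
  rw [O.addV, ← zero_smul F v, h2, mul_zero, zero_mul, O.add_self, zero_add] at h1
  exact h1.symm

theorem adm_c' {q : V → F} (Q : Qd Fr q) (p : Fr.Adm) : p.c = q p.w := by
  have h1 : (⟨p.w, q p.w, Q.qok _ (Fr.ok_mem p.ok)⟩ : Fr.Adm) = p := O.adm_ext rfl
  exact (congrArg Frame.Adm.c h1).symm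

theorem q_ne {q : V → F} (Q : Qd Fr q) {w : V} (hw : w ∈ Fr.V0) (h : q w = 0) : w = 0 := by
  have h1 := Q.qok w hw
  rw [h] at h1
  exact O.ok0 w h1

end Formulas

/-- `α` is induced by the `σ`-semilinear isometry `g` -/
structure Lf (ψ : K →* (V ≃ₗ[F] V)) (q : V → F) (α : MulAut K) (σ : F ≃+* F) (g : Equiv.Perm V) : Prop where
  add : ∀ u v, g (u + v) = g u + g v
  smul : ∀ (a : F) v, g (a • v) = σ a • g v
  q : ∀ v, q (g v) = σ (q v)
  it : ∀ x v, ψ (α x) (g v) = g (ψ x v)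

variable {ψ : K →* (V ≃ₗ[F] V)} {q : V → F}

namespace Lf

variable {α β : MulAut K} {σ τ : F ≃+* F} {g k : Equiv.Perm V}

theorem one : Lf ψ q (1 : MulAut K) (1 : F ≃+* F) (1 : Equiv.Perm V) :=
  ⟨fun _ _ => rfl, fun _ _ => rfl, fun _ => rfl, fun _ _ => rfl⟩

theorem map_zero (hα : Lf ψ q α σ g) : g 0 = 0 := by
  have h1 := hα.add 0 0
  rw [add_zero] at h1
  exact (left_eq_add.1 h1)

theorem mul (hα : Lf ψ q α σ g) (hβ : Lf ψ q β τ k) : Lf ψ q (α * β) (σ * τ) (g * k) where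
  add u v := by
    show g (k (u + v)) = g (k u) + g (k v)
    rw [hβ.add, hα.add]
  smul a v := by
    show g (k (a • v)) = σ (τ a) • g (k v)
    rw [hβ.smul, hα.smul]
  q v := by
    show q (g (k v)) = σ (τ (q v))
    rw [hα.q, hβ.q]
  it x v := by
    show ψ (α (β x)) (g (k v)) = g (k (ψ x v))
    rw [hα.it, hβ.it]

theorem pow (hα : Lf ψ q α σ g) (m : ℕ) : Lf ψ q (α ^ m) (σ ^ m) (g ^ m) := by
  induction m with
  | zero => exact one
  | succ m ih =>
    rw [pow_succ, pow_succ, pow_succ]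
    exact ih.mul hα

theorem inv (hα : Lf ψ q α σ g) : Lf ψ q α⁻¹ σ⁻¹ g⁻¹ where
  add u v := by
    apply g.injective
    show g (g.symm (u + v)) = g (g.symm u + g.symm v)
    rw [g.apply_symm_apply, hα.add, g.apply_symm_apply, g.apply_symm_apply]
  smul a v := by
    apply g.injective
    show g (g.symm (a • v)) = g (σ.symm a • g.symm v)
    rw [g.apply_symm_apply, hα.smul, g.apply_symm_apply, σ.apply_symm_apply]
  q v := by
    apply σ.injective
    show σ (q (g.symm v)) = σ (σ.symm (q v))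
    rw [← hα.q, g.apply_symm_apply, σ.apply_symm_apply]
  it x v := by
    apply g.injective
    show g (ψ (α⁻¹ x) (g.symm v)) = g (g.symm (ψ x v))
    rw [← hα.it, MulAut.apply_inv_self, g.apply_symm_apply, g.apply_symm_apply]

theorem conj (P : Rep M q ψ) (u : K) : Lf ψ q (MulAut.conj u) (1 : F ≃+* F) (ψ u).toEquiv where
  add v w := (ψ u).map_add v w
  smul a v := (ψ u).map_smul a v
  q v := P.q u v
  it x v := by
    show ψ (u * x * u⁻¹) (ψ u v) = ψ u (ψ x v)
    rw [map_mul, map_mul, map_inv]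
    show ψ u (ψ x ((ψ u)⁻¹ (ψ u v))) = _
    congr 2
    exact (ψ u).symm_apply_apply v

theorem h (hα : Lf ψ q α σ g) (Q : Qd Fr q) (v w : V) : H.h (g v) (g w) = σ (H.h v w) := by
  have h1 := Q.qadd (g v) (g w)
  rw [← hα.add, hα.q, hα.q, hα.q, Q.qadd, map_add, map_add] at h1
  exact (add_left_cancel h1).symm

section Frame

variable (O : KFacts.WittOrth.Orth Fr) (P : Rep M q ψ) (Q : Qd Fr q)

include O P Q

/-- the image of `b x` under the lift of an automorphism fixing the root groups -/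
theorem b (hα : Lf ψ q α σ g) (hX : ∀ x y : Fin n × Bool, x.1 ≠ y.1 → ∃ t, α (M.X x y 1) = M.X x y t)
    {x y : Fin n × Bool} (hxy : x.1 ≠ y.1) : ∃ l : F, l ≠ 0 ∧ g (Fr.b x) = l • Fr.b x := by
  have key : ∀ y : Fin n × Bool, x.1 ≠ y.1 → ∃ a b : F, g (Fr.b x) = a • Fr.b y + b • Fr.b x := by
    intro y hxy
    obtain ⟨t, ht⟩ := hX x y hxy
    have h1 := hα.it (M.X x y 1) (Fr.b (ng y))
    have e1 : H.h (Fr.b (ng y)) (Fr.b x) = 0 := Fr.hb_of_ne (x := ng y) (y := x) (Ne.symm hxy)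
    rw [ht, P.X, P.X, X_ap O hxy, X_ap O hxy, e1, O.hbb', one_mul, one_mul, zero_smul, add_zero, one_smul,
      hα.add, add_assoc] at h1
    exact ⟨_, _, (add_left_cancel h1).symm⟩
  obtain ⟨a, b, h1⟩ := key y hxy
  obtain ⟨a', b', h2⟩ := key (ng y) hxy
  have h3 := congrArg (fun v => H.h v (Fr.b (ng y))) (h1.symm.trans h2)
  have e1 : H.h (Fr.b x) (Fr.b (ng y)) = 0 := Fr.hb_of_ne (x := x) (y := ng y) hxy
  simp only [H.add_left, H.smul_left, O.hbb, e1, Fr.hb_self, mul_zero, mul_one, add_zero] at h3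
  rw [h3, zero_smul, zero_add] at h1
  refine ⟨b, ?_, h1⟩
  rintro rfl
  rw [zero_smul] at h1
  exact O.b_ne x (g.injective (by rw [h1, hα.map_zero]))

/-- the lift preserves `V0` -/
theorem V0 (hα : Lf ψ q α σ g) (hb : ∀ x, ∃ l : F, l ≠ 0 ∧ g (Fr.b x) = l • Fr.b x) {w : V} (hw : w ∈ Fr.V0) :
    g w ∈ Fr.V0 := by
  apply O.V0
  intro x
  obtain ⟨l, hl, e⟩ := hb x
  have h1 := hα.h Q w (Fr.b x)
  rw [e, H.smul_right, O.σ, Fr.h0' x hw, _root_.map_zero] at h1
  exact (mul_eq_zero.1 h1).resolve_left hl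

/-- **The lift of `1` is trivial.** -/
theorem triv (hn : 2 ≤ n) (hα : Lf ψ q (1 : MulAut K) σ g) : σ = 1 ∧ ∀ v, g v = v := by
  have hX : ∀ x y : Fin n × Bool, x.1 ≠ y.1 → ∃ t, (1 : MulAut K) (M.X x y 1) = M.X x y t :=
    fun x y _ => ⟨1, rfl⟩
  have hex : ∀ x : Fin n × Bool, ∃ y : Fin n × Bool, x.1 ≠ y.1 := by
    intro x
    by_cases h0 : (x.1 : ℕ) = 0
    · exact ⟨(⟨1, by omega⟩, true), fun h1 => by have := congrArg Fin.val h1; simp only at this; omega⟩
    · exact ⟨(⟨0, by omega⟩, true), fun h1 => by have := congrArg Fin.val h1; simp only at this; omega⟩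
  have hb : ∀ x, ∃ l : F, l ≠ 0 ∧ g (Fr.b x) = l • Fr.b x := by
    intro x
    obtain ⟨y, hy⟩ := hex x
    exact hα.b O P Q hX hy
  choose l hl hlb using hb
  have hrel : ∀ x y : Fin n × Bool, x.1 ≠ y.1 → ∀ t, t * l (ng y) = σ t * l x := by
    intro x y hxy t
    have h1 := hα.it (M.X x y t) (Fr.b (ng y))
    have e1 : H.h (Fr.b (ng y)) (Fr.b x) = 0 := Fr.hb_of_ne (x := ng y) (y := x) (Ne.symm hxy)
    rw [MulAut.one_apply, P.X, X_ap O hxy, X_ap O hxy, hlb, H.smul_left, H.smul_left, e1, O.hbb', mul_zero, mul_zero,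
      zero_smul, add_zero, mul_one, mul_one, add_zero, hα.add, hα.smul, hlb, hlb, smul_smul] at h1
    have h2 := add_left_cancel h1
    have h3 := congrArg (fun v => H.h v (Fr.b (ng x))) h2
    simp only [H.smul_left, O.hbb, mul_one] at h3
    exact h3
  have h1 : ∀ x y : Fin n × Bool, x.1 ≠ y.1 → l (ng y) = l x := by
    intro x y hxy
    have := hrel x y hxy 1
    rwa [one_mul, map_one, one_mul] at this
  have h2 : ∀ x : Fin n × Bool, l x = 1 := by
    intro x
    obtain ⟨y, hy⟩ := hex x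
    have e1 := h1 y x (Ne.symm hy)
    have e2 := h1 y (ng x) (Ne.symm hy)
    rw [ng_ng] at e2
    have h3 := hα.h Q (Fr.b x) (Fr.b (ng x))
    rw [hlb, hlb, H.smul_left, H.smul_right, O.σ, O.hbb, map_one, mul_one, e1, ← e2] at h3
    have h4 : (l x + 1) * (l x + 1) = 0 := by
      have : (l x + 1) * (l x + 1) = l x * l x + 1 + 2 * l x := by ring
      rw [this, h3, O.two, O.add_self]; ring
    exact O.eq_of_add (mul_self_eq_zero.1 h4)
  have hσ : σ = 1 := by
    ext t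
    let x : Fin n × Bool := (⟨0, by omega⟩, true)
    obtain ⟨y, hy⟩ := hex x
    have := hrel x y hy t
    rw [h2, h2, mul_one, mul_one] at this
    exact this.symm
  refine ⟨hσ, ?_⟩
  subst hσ
  have hb1 : ∀ x, g (Fr.b x) = Fr.b x := fun x => by rw [hlb, h2, one_smul]
  have hw1 : ∀ w ∈ Fr.V0, g w = w := by
    intro w hw
    obtain ⟨p, rfl⟩ := O.exists_adm hw
    let x : Fin n × Bool := (⟨0, by omega⟩, true)
    have h3 := hα.it (M.Z x p) (Fr.b (ng x))
    rw [MulAut.one_apply, P.Z, hb1, Z_ap O, O.hbb', one_smul, Fr.h0 _ _ (Fr.ok_mem p.ok), zero_smul, add_zero,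
      mul_one, hα.add, hα.add, hα.smul, hb1, hb1] at h3
    have h4 := add_right_cancel h3
    exact (add_left_cancel h4).symm
  let gl : V ≃ₗ[F] V := { g with map_add' := hα.add, map_smul' := hα.smul }
  have h5 : gl = 1 := O.eq_one hb1 hw1
  intro v
  exact congrArg (fun k : V ≃ₗ[F] V => k v) h5

/-- lifts of elements of finite order -/
theorem pow_eq (hn : 2 ≤ n) (hα : Lf ψ q α σ g) {m : ℕ} (hm : α ^ m = 1) : σ ^ m = 1 ∧ g ^ m = 1 := by
  have h1 := hα.pow m
  rw [hm] at h1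
  obtain ⟨h2, h3⟩ := h1.triv O P Q hn
  exact ⟨h2, Equiv.ext h3⟩

end Frame

end Lf

end Cfsg.Agent.OddHalf.D4.MinusB

end

-- merged: Cfsg.Agent.OddHalf.D4.MinusB.Frm
section

/-!
# ODD, D4, (1B), `PΩ⁻`: frame automorphisms, the field part

helper328.
-/

set_option autoImplicit false
set_option linter.unusedSectionVars false

namespace Cfsg.Agent.OddHalf.D4.MinusB

open CoxeterSystem Cfsg.Agent.ChevalleyStructure.CoxeterGeom Cfsg.Agent.Tits.Roots Cfsg.Agent.Nodes.TypeC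
  Cfsg.Agent.Tits.RootComb
open Cfsg.Agent.Nodes.Comb Cfsg.Agent.Nodes.Reps Cfsg.Agent.Nodes.WittRoot Cfsg.Agent.Nodes.BNOf
  Cfsg.Agent.Nodes.StabComb Cfsg.Agent.Nodes.Coroot Cfsg.Agent.Nodes.KindBC Cfsg.Agent.Nodes.TypeCForm
  Cfsg.Agent.Nodes.Bruhat Cfsg.Agent.Nodes.PosPair Cfsg.Agent.Nodes.OppDec
open Cfsg.Agent Cfsg.Agent.TitsThree Cfsg.Agent.TitsThree.Siegel Cfsg.Agent.TitsThree.WittFrame
  Cfsg.Agent.TitsThree.WittWeyl Cfsg.Agent.TitsThree.FrameCN Cfsg.Agent.TitsThree.LineBorel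
open Cfsg.Agent.KFacts.WittOrth Cfsg.Agent.OddHalf.DblR.MinusComb Cfsg.Agent.OddHalf.DblR.SheetMinus
open Cfsg.Agent.KFacts.RgdAut Cfsg.Agent.KFacts.RgdDiag Cfsg.Agent.KFacts.RgdRigid Cfsg.Agent.KFacts.RgdTI
  Cfsg.Agent.KFacts.RgdCent Cfsg.Agent.OddHalf.D4.Free

variable {F : Type*} [Field F] {V : Type*} [AddCommGroup V] [Module F V] {H : HForm F V} {n : ℕ}
  {Fr : Frame H (Fin n)} {K : Type*} [Group K] {M : Model Fr K} {ψ : K →* (V ≃ₗ[F] V)} {q : V → F}

/-- `Rep` from the action of the root elements -/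
theorem Rep.mk' (O : KFacts.WittOrth.Orth Fr) (Q : Qd Fr q) (hn : 0 < n) {W : Type*} [Group W]
    (cs : CoxeterSystem (CoxeterMatrix.B n) W) (hI : ∀ g ∈ M.I, H.IsIso g) :
    Rep M q (KFacts.SpecMinus.ψ M O hI hn cs) := by
  have hX : ∀ x y t, KFacts.SpecMinus.ψ M O hI hn cs (M.X x y t) = Fr.X x y t :=
    fun x y t => KFacts.SpecMinus.ψ_φ M O hI hn cs _
  have hZ : ∀ x p, KFacts.SpecMinus.ψ M O hI hn cs (M.Z x p) = Fr.Z x p :=
    fun x p => KFacts.SpecMinus.ψ_φ M O hI hn cs _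
  refine ⟨KFacts.SpecMinus.ψ_inj M O hI hn cs, hX, hZ, ?_⟩
  have hXq : ∀ x y t v, q (Fr.X x y t v) = q v := by
    intro x y t v
    by_cases hxy : x.1 ≠ y.1
    · rw [X_ap O hxy, Q.qadd, Q.qadd, Q.qsmul, Q.qsmul, Q.qb, Q.qb, H.add_left, H.smul_left, H.smul_right, H.smul_right,
        H.smul_right, Fr.hb_of_ne hxy.symm, O.σ, O.σ]
      linear_combination (t * H.h v (Fr.b x) * H.h v (Fr.b y)) * O.two
    · rw [Frame.X, dif_neg hxy]; rfl
  have hZq : ∀ x p v, q (Fr.Z x p v) = q v := by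
    intro x p v
    have hc := adm_c' O Q p
    rw [Z_ap O, Q.qadd, Q.qadd, Q.qadd, Q.qsmul, Q.qsmul, Q.qsmul, Q.qb, ← hc, H.add_left, H.add_left, H.smul_left]
    simp only [H.smul_right, H.smul_left, H.add_left, Fr.h0' x (Fr.ok_mem p.ok), Fr.hb_self, O.σ]
    linear_combination (p.c * (H.h v (Fr.b x) * H.h v (Fr.b x)) + H.h v (Fr.b x) * H.h v p.w) * O.two
  let S : Subgroup K :=
    { carrier := {u | ∀ v, q (KFacts.SpecMinus.ψ M O hI hn cs u v) = q v}
      mul_mem' := by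
        intro a b ha hb v
        rw [map_mul]
        show q (KFacts.SpecMinus.ψ M O hI hn cs a (KFacts.SpecMinus.ψ M O hI hn cs b v)) = q v
        rw [ha, hb]
      one_mem' := by intro v; rw [map_one]; rfl
      inv_mem' := by
        intro a ha v
        have h1 := ha ((KFacts.SpecMinus.ψ M O hI hn cs a)⁻¹ v)
        rw [map_inv, ← h1]
        congr 1
        exact ((KFacts.SpecMinus.ψ M O hI hn cs a).apply_symm_apply v) }
  have hS : S = ⊤ := by
    rw [eq_top_iff, ← Nodes.WittModel.G1_eq_top M hn cs]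
    refine iSup_le ?_
    rintro ⟨x, hx⟩
    obtain ⟨a, b, hab, rfl⟩ := exists_rt hx
    rcases hab with hab | rfl
    · intro u hu
      obtain ⟨t, rfl⟩ := (mem_X_ne M hab).1 hu
      intro v
      rw [hX, hXq]
    · intro u hu
      obtain ⟨p, rfl⟩ := (mem_X_self M).1 hu
      intro v
      rw [hZ, hZq]
  intro u v
  have : u ∈ S := by rw [hS]; exact Subgroup.mem_top u
  exact this v

variable {W : Type*} [Group W] {cs : CoxeterSystem (CoxeterMatrix.B n) W} [Finite W] {T : Subgroup K} {nn : Fin n → K}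

/-- a frame automorphism with trivial diagram symmetry -/
theorem diag_X (R : RGD cs (isCartan n) 2 T nn (Nodes.WittModel.X M)) {β : MulAut K}
    (D : Diag T (Nodes.WittModel.X M) β 1) {x y : Fin n × Bool} (hxy : x.1 ≠ y.1) (s : F) :
    ∃ t, β (M.X x y s) = M.X x y t := by
  have h1 := (D.root_comp R (fun _ _ => rfl) (isRoot_rt cs (Or.inl hxy)) (M.X x y s)).2
    ((mem_X_ne M hxy).2 ⟨s, rfl⟩)
  exact (mem_X_ne M hxy).1 h1

theorem diag_Z (R : RGD cs (isCartan n) 2 T nn (Nodes.WittModel.X M)) {β : MulAut K}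
    (D : Diag T (Nodes.WittModel.X M) β 1) (x : Fin n × Bool) (p : Fr.Adm) :
    ∃ p', β (M.Z x p) = M.Z x p' := by
  have h1 := (D.root_comp R (fun _ _ => rfl) (isRoot_rt cs (Or.inr rfl)) (M.Z x p)).2
    ((mem_X_self M).2 ⟨p, rfl⟩)
  exact (mem_X_self M).1 h1

theorem eq_one_of_pow_two {F : Type*} [Field F] (h2 : (2 : F) = 0) {l : F} {m : ℕ} (h : l ^ 2 ^ m = 1) : l = 1 := by
  induction m with
  | zero => simpa using h
  | succ m ih =>
    apply ih
    rw [pow_succ, pow_mul] at h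
    have h3 : (l ^ 2 ^ m + 1) * (l ^ 2 ^ m + 1) = 0 := by
      have : (l ^ 2 ^ m + 1) * (l ^ 2 ^ m + 1) = (l ^ 2 ^ m) ^ 2 + 1 + 2 * l ^ 2 ^ m := by ring
      rw [this, h, h2]
      have h4 : (1 : F) + 1 = 2 := by norm_num
      rw [h4, h2]; ring
    have h5 := mul_self_eq_zero.1 h3
    have h6 := eq_neg_of_add_eq_zero_left h5
    rw [h6]
    have h7 : (1 : F) + 1 = 0 := by rw [← h2]; norm_num
    exact neg_eq_of_add_eq_zero_left h7

section Frame

variable (O : KFacts.WittOrth.Orth Fr) (P : Rep M q ψ) (Q : Qd Fr q)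
  (R : RGD cs (isCartan n) 2 T nn (Nodes.WittModel.X M)) (hn : 3 ≤ n)

include O P Q R hn

theorem exists_ne (x : Fin n × Bool) : ∃ y : Fin n × Bool, x.1 ≠ y.1 := by
  obtain ⟨y, hy, -⟩ := DblR.MinusComb.exists_out hn x x
  exact ⟨y, Ne.symm hy⟩

/-- the frame is fixed up to scalars -/
theorem frame_b {β : MulAut K} (D : Diag T (Nodes.WittModel.X M) β 1) {σ : F ≃+* F} {g : Equiv.Perm V}
    (L : Lf ψ q β σ g) (x : Fin n × Bool) : ∃ l : F, l ≠ 0 ∧ g (Fr.b x) = l • Fr.b x := by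
  obtain ⟨y, hxy⟩ := exists_ne O P Q R hn x
  exact L.b O P Q (fun x y hxy => diag_X R D hxy 1) hxy

/-- linear frame automorphisms of 2-power order fix the frame -/
theorem frame_lin {β : MulAut K} (D : Diag T (Nodes.WittModel.X M) β 1) {g : Equiv.Perm V} (L : Lf ψ q β 1 g) {m : ℕ}
    (hm : β ^ 2 ^ m = 1) (x : Fin n × Bool) : g (Fr.b x) = Fr.b x := by
  obtain ⟨l, hl, e⟩ := frame_b O P Q R hn D L x
  have h1 : ∀ k : ℕ, (g ^ k) (Fr.b x) = l ^ k • Fr.b x := by
    intro k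
    induction k with
    | zero => rw [pow_zero, pow_zero, one_smul]; rfl
    | succ k ih =>
      rw [pow_succ', Equiv.Perm.mul_apply, ih, L.smul, e, smul_smul, pow_succ]
      rfl
  have h2 := (L.pow_eq O P Q (by omega) hm).2
  have h3 := h1 (2 ^ m)
  rw [h2, Equiv.Perm.one_apply] at h3
  have h4 : l ^ 2 ^ m = 1 := by
    have h5 := congrArg (fun v => H.h v (Fr.b (ng x))) h3
    simp only [H.smul_left, O.hbb, mul_one] at h5
    exact h5.symm
  rw [e, eq_one_of_pow_two O.two h4, one_smul]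

/-- the action of a linear frame automorphism of 2-power order on the long root groups is trivial -/
theorem frame_X {β : MulAut K} (D : Diag T (Nodes.WittModel.X M) β 1) {g : Equiv.Perm V} (L : Lf ψ q β 1 g) {m : ℕ}
    (hm : β ^ 2 ^ m = 1) {x y : Fin n × Bool} (hxy : x.1 ≠ y.1) (s : F) : β (M.X x y s) = M.X x y s := by
  obtain ⟨t, ht⟩ := diag_X R D hxy s
  have h1 := L.it (M.X x y s) (Fr.b (ng y))
  have e1 : H.h (Fr.b (ng y)) (Fr.b x) = 0 := Fr.hb_of_ne (x := ng y) (y := x) (Ne.symm hxy)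
  have hb := frame_lin O P Q R hn D L hm
  rw [ht, P.X, P.X, X_ap O hxy, X_ap O hxy, hb, e1, O.hbb', mul_zero, mul_zero, zero_smul, add_zero, mul_one, mul_one,
    L.add, L.smul, hb, hb] at h1
  have h2 := add_left_cancel h1
  have h3 := congrArg (fun v => H.h v (Fr.b (ng x))) h2
  simp only [H.smul_left, O.hbb, mul_one] at h3
  rw [ht, h3]; rfl

/-- the action on the short root groups -/
theorem frame_Z {β : MulAut K} (D : Diag T (Nodes.WittModel.X M) β 1) {g : Equiv.Perm V} (L : Lf ψ q β 1 g) {m : ℕ}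
    (hm : β ^ 2 ^ m = 1) {x : Fin n × Bool} {p p' : Fr.Adm} : β (M.Z x p) = M.Z x p' ↔ p'.w = g p.w := by
  have hb := frame_lin O P Q R hn D L hm
  have key : ∀ p', β (M.Z x p) = M.Z x p' → p'.w = g p.w := by
    intro p' hp'
    have h1 := L.it (M.Z x p) (Fr.b (ng x))
    have hcc : p'.c = p.c := by
      have e3 := congrArg q h1
      have h2 := congrArg (fun v => H.h v (Fr.b (ng x))) h1
      rw [hp', P.Z, P.Z, Z_ap O, Z_ap O, hb, O.hbb', Fr.h0 _ _ (Fr.ok_mem p.ok), Fr.h0 _ _ (Fr.ok_mem p'.ok), one_smul,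
        one_smul, zero_smul, add_zero, add_zero, mul_one, mul_one, L.add, L.add, L.smul, hb, hb] at h2
      have h4 : H.h (g p.w) (Fr.b (ng x)) = 0 :=
        Fr.h0' _ (L.V0 O P Q (frame_b O P Q R hn D L) (Fr.ok_mem p.ok))
      simp only [H.add_left, H.smul_left, O.hbb, Fr.hb_self, Fr.h0' _ (Fr.ok_mem p'.ok), h4, mul_one, zero_add] at h2
      exact h2
    rw [hp', P.Z, P.Z, Z_ap O, Z_ap O, hb, O.hbb', Fr.h0 _ _ (Fr.ok_mem p.ok), Fr.h0 _ _ (Fr.ok_mem p'.ok), one_smul,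
      one_smul, zero_smul, add_zero, add_zero, mul_one, mul_one, L.add, L.add, L.smul, hb, hb, hcc] at h1
    have h5 := add_right_cancel h1
    exact add_left_cancel h5
  constructor
  · exact key p'
  · intro h1
    obtain ⟨p'', h2⟩ := diag_Z R D x p
    rw [h2, O.adm_ext ((key p'' h2).trans h1.symm)]

end Frame

end Cfsg.Agent.OddHalf.D4.MinusB

end

-- merged: Cfsg.Agent.OddHalf.D4.MinusB.FieldPart
section

/-!
# ODD, D4, (1B), `PΩ⁻`: the centre of the Sylow group and the field part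

helper328. `inZ_iff : InZ T z ↔ z ∈ X ρ`; `exists_beta` : the frame automorphism of an element of a 2-group of
automorphisms; `fixZ_iff : FixZ T e ↔ σ = 1`.
-/

set_option autoImplicit false
set_option linter.unusedSectionVars false

namespace Cfsg.Agent.OddHalf.D4.MinusB

open CoxeterSystem Cfsg.Agent.ChevalleyStructure.CoxeterGeom Cfsg.Agent.Tits.Roots Cfsg.Agent.Nodes.TypeC
  Cfsg.Agent.Tits.RootComb
open Cfsg.Agent.Nodes.Comb Cfsg.Agent.Nodes.Reps Cfsg.Agent.Nodes.WittRoot Cfsg.Agent.Nodes.BNOf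
  Cfsg.Agent.Nodes.StabComb Cfsg.Agent.Nodes.Coroot Cfsg.Agent.Nodes.KindBC Cfsg.Agent.Nodes.TypeCForm
  Cfsg.Agent.Nodes.Bruhat Cfsg.Agent.Nodes.PosPair Cfsg.Agent.Nodes.OppDec
open Cfsg.Agent Cfsg.Agent.TitsThree Cfsg.Agent.TitsThree.Siegel Cfsg.Agent.TitsThree.WittFrame
  Cfsg.Agent.TitsThree.WittWeyl Cfsg.Agent.TitsThree.FrameCN Cfsg.Agent.TitsThree.LineBorel
open Cfsg.Agent.KFacts.WittOrth Cfsg.Agent.OddHalf.DblR.MinusComb Cfsg.Agent.OddHalf.DblR.SheetMinus
open Cfsg.Agent.KFacts.RgdAut Cfsg.Agent.KFacts.RgdDiag Cfsg.Agent.KFacts.RgdRigid Cfsg.Agent.KFacts.RgdTI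
  Cfsg.Agent.KFacts.RgdCent Cfsg.Agent.KFacts.RgdCentW Cfsg.Agent.KFacts.RgdSL Cfsg.Agent.OddHalf.D4.Free

variable {F : Type*} [Field F] {V : Type*} [AddCommGroup V] [Module F V] {H : HForm F V} {n : ℕ}
  {Fr : Frame H (Fin n)} {K : Type*} [Group K] {M : Model Fr K} {ψ : K →* (V ≃ₗ[F] V)} {q : V → F}
  {W : Type*} [Group W] {cs : CoxeterSystem (CoxeterMatrix.B n) W} [Finite W] {Tor : Subgroup K} {nn : Fin n → K}
  [Finite F] [Finite V]

/-- the first two signed indices -/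
def i0 (hn : 3 ≤ n) : Fin n × Bool := (⟨0, by omega⟩, true)

def i1 (hn : 3 ≤ n) : Fin n × Bool := (⟨1, by omega⟩, true)

theorem i01 (hn : 3 ≤ n) : (i0 hn).1 ≠ (i1 hn).1 := by
  intro h
  have := congrArg Fin.val h
  exact absurd this (by show ¬ (0 : ℕ) = 1; omega)

theorem dl_i0 (hn : 3 ≤ n) (c : Fin n × Bool) : (ps c = 0 ∧ dl c (i0 hn) = 1) ∨ (ps c = 2 * n + 1 ∧ dl c (i0 hn) = -1) ∨
    (0 < ps c ∧ ps c < 2 * n + 1 ∧ dl c (i0 hn) = 0) := by
  have e0 : ps (i0 hn) = 0 := rfl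
  have e1 := ps_ng (i0 hn)
  rcases dl_cases c (i0 hn) with ⟨rfl, h⟩ | ⟨rfl, h⟩ | ⟨h1, h⟩
  · exact Or.inl ⟨e0, h⟩
  · exact Or.inr (Or.inl ⟨by omega, h⟩)
  · refine Or.inr (Or.inr ⟨?_, ?_, h⟩)
    · rcases Nat.eq_zero_or_pos (ps c) with h2 | h2
      · exact absurd (congrArg Prod.fst (ps_inj (h2.trans e0.symm))) h1
      · exact h2
    · have := ps_lt c
      rcases Nat.lt_or_ge (ps c) (2 * n + 1) with h2 | h2
      · exact h2
      · exact absurd (congrArg Prod.fst (ps_inj (show ps c = ps (ng (i0 hn)) by omega))) h1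

theorem dl_i1 (hn : 3 ≤ n) (c : Fin n × Bool) : (ps c = 1 ∧ dl c (i1 hn) = 1) ∨ (ps c = 2 * n ∧ dl c (i1 hn) = -1) ∨
    (ps c ≠ 1 ∧ ps c ≠ 2 * n ∧ dl c (i1 hn) = 0) := by
  have e0 : ps (i1 hn) = 1 := rfl
  have e1 := ps_ng (i1 hn)
  rcases dl_cases c (i1 hn) with ⟨rfl, h⟩ | ⟨rfl, h⟩ | ⟨h1, h⟩
  · exact Or.inl ⟨e0, h⟩
  · exact Or.inr (Or.inl ⟨by omega, h⟩)
  · refine Or.inr (Or.inr ⟨fun h2 => ?_, fun h2 => ?_, h⟩)
    · exact absurd (congrArg Prod.fst (ps_inj (h2.trans e0.symm))) h1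
    · exact absurd (congrArg Prod.fst (ps_inj (show ps c = ps (ng (i1 hn)) by omega))) h1

variable (cs) in
/-- positive roots have nonnegative product with the highest root -/
theorem cpr_rho (hn : 3 ≤ n) {a : Fin n → ℤ} (ha : a ∈ RGD.Pos cs (isCartan n)) :
    0 ≤ cpr cs (isCartan n) a (rt (i0 hn) (i1 hn)) := by
  obtain ⟨c, d, hcd, rfl, hlt⟩ := exists_of_pos cs ha
  rw [cpr_ne cs _ (i01 hn), ev_rt, ev_rt]
  have h0 := ps_lt c
  have h0' := ps_lt d
  have hne : c ≠ ng d := fun h => ok_iff.1 hcd.symm h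
  rcases dl_i0 hn c with ⟨h1, h2⟩ | ⟨h1, h2⟩ | ⟨h1, h1', h2⟩ <;> rcases dl_i0 hn d with ⟨h3, h4⟩ | ⟨h3, h4⟩ | ⟨h3, h3', h4⟩ <;>
  rcases dl_i1 hn c with ⟨h5, h6⟩ | ⟨h5, h6⟩ | ⟨h5, h5', h6⟩ <;> rcases dl_i1 hn d with ⟨h7, h8⟩ | ⟨h7, h8⟩ | ⟨h7, h7', h8⟩ <;>
  omega

variable (cs) in
theorem pos_of_cpr (hn : 3 ≤ n) {a : Fin n → ℤ} (ha : IsRoot cs (isCartan n) a)
    (h : 0 < cpr cs (isCartan n) a (rt (i0 hn) (i1 hn))) : a ∈ RGD.Pos cs (isCartan n) := by
  rcases ha.pos_or_neg with h1 | h1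
  · exact ⟨ha, h1⟩
  · exfalso
    have h2 := cpr_rho cs hn (a := -a) ⟨ha.neg, by
      intro i
      have := h1 i
      simp only [Pi.neg_apply, Pi.zero_apply] at this ⊢
      omega⟩
    rw [cpr_neg _ _ _ (isRoot_rt cs (Or.inl (i01 hn)))] at h2
    omega

theorem rho_pos (hn : 3 ≤ n) : rt (i0 hn) (i1 hn) ∈ RGD.Pos cs (isCartan n) :=
  rt_pos cs (Or.inl (i01 hn)) (by
    show (0 : ℕ) + 1 < _
    omega)

section

variable (O : KFacts.WittOrth.Orth Fr) (R : RGD cs (isCartan n) 2 Tor nn (Nodes.WittModel.X M)) (hn : 3 ≤ n)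
  (hA : Nodes.WittAll.AmbT Fr 2 M.I) (hN : NoCent cs (isCartan n) Tor (Nodes.WittModel.X M))
  (hG1 : RGD.Sup (Nodes.WittModel.X M) {x | IsRoot cs (isCartan n) x} = ⊤)

include O R

/-- `X ρ` centralises `U` -/
theorem comm_rho {u z : K} (hz : z ∈ Nodes.WittModel.X M (rt (i0 hn) (i1 hn)))
    (hu : u ∈ RGD.Sup (Nodes.WittModel.X M) (RGD.Pos cs (isCartan n))) : u * z = z * u := by
  have h1 : RGD.Sup (Nodes.WittModel.X M) (RGD.Pos cs (isCartan n)) ≤ Subgroup.centralizer {z} := by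
    refine RGD.Sup_le fun a ha v hv => ?_
    rw [Subgroup.mem_centralizer_singleton_iff]
    exact (lr_of_RB M O R (rt_mem_RB (i01 hn))).comm a ha.1 (cpr_rho cs hn ha) v hv z hz
  exact Subgroup.mem_centralizer_singleton_iff.1 (h1 hu)

include hn hA hN hG1

/-- **`Z(U) = X ρ`** -/
theorem mem_rho {z : K} (hz : ∀ u ∈ RGD.Sup (Nodes.WittModel.X M) (RGD.Pos cs (isCartan n)), u * z = z * u) :
    z ∈ Nodes.WittModel.X M (rt (i0 hn) (i1 hn)) := by
  have h1 := cent R (cfg1 M O R hA hn (i01 hn) (isRoot_rt cs (Or.inl (i01 hn)))) hN (g := z)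
    (by rw [GG_eq_top hG1]; exact Subgroup.mem_top z) (fun a ha h0 v hv => by
      exact (hz v (RGD.le_Sup (pos_of_cpr cs hn ha h0) hv)).symm)
  exact RGD.Sup_le (fun c hc => by rw [Set.mem_singleton_iff] at hc; rw [hc]) h1

variable (T : Sylow 2 K) (hT : (T : Subgroup K) = RGD.Sup (Nodes.WittModel.X M) (RGD.Pos cs (isCartan n)))

include hT

theorem inZ_iff' {z : K} : InZ T z ↔ z ∈ Nodes.WittModel.X M (rt (i0 hn) (i1 hn)) := by
  have hT' : ∀ x, x ∈ T ↔ x ∈ RGD.Sup (Nodes.WittModel.X M) (RGD.Pos cs (isCartan n)) := fun x => by rw [← hT]; rfl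
  constructor
  · rintro ⟨_, h2⟩
    exact mem_rho O R hn hA hN hG1 fun u hu => h2 u ((hT' u).2 hu)
  · intro hz
    exact ⟨(hT' z).2 (RGD.le_Sup (rho_pos hn) hz), fun t ht => comm_rho O R hn hz ((hT' t).1 ht)⟩

omit hA hN hG1 hT in
/-- `σ` of an automorphism fixing a long root group -/
theorem sigma_of_fix (P : Rep M q ψ) {e : MulAut K} {σ : F ≃+* F} {g : Equiv.Perm V} (L : Lf ψ q e σ g)
    {x y : Fin n × Bool} (hxy : x.1 ≠ y.1) (h : ∀ t, e (M.X x y t) = M.X x y t) : σ = 1 := by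
  have key : ∀ t, t • (H.h (g (Fr.b (ng y))) (Fr.b x) • Fr.b y + H.h (g (Fr.b (ng y))) (Fr.b y) • Fr.b x) =
      σ t • g (Fr.b x) := by
    intro t
    have h1 := L.it (M.X x y t) (Fr.b (ng y))
    have e1 : H.h (Fr.b (ng y)) (Fr.b x) = 0 := Fr.hb_of_ne (x := ng y) (y := x) (Ne.symm hxy)
    rw [h, P.X, X_ap O hxy, X_ap O hxy, e1, O.hbb', mul_zero, zero_smul, add_zero, mul_one, L.add, L.smul, add_assoc] at h1
    have h2 := add_left_cancel h1
    rw [← h2, smul_add, smul_smul, smul_smul]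
  have h1 := key 1
  rw [one_smul, map_one, one_smul] at h1
  ext t
  have h2 := key t
  rw [h1] at h2
  have h3 : g (Fr.b x) ≠ 0 := fun h4 => O.b_ne x (g.injective (by rw [h4, L.map_zero]))
  have h4 : (t - σ t) • g (Fr.b x) = 0 := by rw [sub_smul, h2, sub_self]
  exact (sub_eq_zero.1 ((smul_eq_zero.1 h4).resolve_right h3)).symm

theorem sigma_of_fixZ (P : Rep M q ψ) {e : MulAut K} {σ : F ≃+* F} {g : Equiv.Perm V} (L : Lf ψ q e σ g)
    (h : FixZ T e) : σ = 1 := by
  refine sigma_of_fix O R hn P L (i01 hn) fun t => h _ ?_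
  rw [inZ_iff' O R hn hA hN hG1 T hT]
  exact (mem_X_ne M (i01 hn)).2 ⟨t, rfl⟩

/-- (k2) -/
theorem sigma_of_fix_conj (P : Rep M q ψ) {e : MulAut K} {σ : F ≃+* F} {g : Equiv.Perm V} (L : Lf ψ q e σ g) (k : K)
    (h : ∀ z, InZ T z → e (k * z * k⁻¹) = k * z * k⁻¹) : σ = 1 := by
  have L2 := ((Lf.conj P k⁻¹).mul L).mul (Lf.conj P k)
  rw [one_mul, mul_one] at L2
  refine sigma_of_fix O R hn P L2 (i01 hn) fun t => ?_
  have h1 := h (M.X (i0 hn) (i1 hn) t) ((inZ_iff' O R hn hA hN hG1 T hT).2 ((mem_X_ne M (i01 hn)).2 ⟨t, rfl⟩))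
  show k⁻¹ * e (k * M.X (i0 hn) (i1 hn) t * k⁻¹) * k⁻¹⁻¹ = _
  rw [h1]
  group

omit hA hN in
/-- the frame automorphism -/
theorem exists_beta {e : MulAut K} {m : ℕ} (he : e ^ 2 ^ m = 1) (heT : ∀ t ∈ T, e t ∈ T) :
    ∃ u ∈ T, Fix (MulAut.conj u * e) (RGD.Sup (Nodes.WittModel.X M) (RGD.Pos cs (isCartan n))) ∧
      Fix (MulAut.conj u * e) (UN cs (isCartan n) (Nodes.WittModel.X M)) ∧
      (∀ k : ℕ, e ^ k = 1 → (MulAut.conj u * e) ^ k = 1) ∧ Diag Tor (Nodes.WittModel.X M) (MulAut.conj u * e) 1 := by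
  have hT' : ∀ x, x ∈ T ↔ x ∈ RGD.Sup (Nodes.WittModel.X M) (RGD.Pos cs (isCartan n)) := fun x => by rw [← hT]; rfl
  have hpow : ∀ k : ℕ, ∀ t ∈ T, (e ^ k) t ∈ T := by
    intro k
    induction k with
    | zero => intro t ht; exact ht
    | succ k ih =>
      intro t ht
      rw [pow_succ, MulAut.mul_apply]
      exact ih _ (heT t ht)
  have hfix : Fix e (RGD.Sup (Nodes.WittModel.X M) (RGD.Pos cs (isCartan n))) := by
    intro x
    rw [← hT', ← hT']
    refine ⟨fun hx => ?_, heT x⟩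
    have h1 := hpow (2 ^ m - 1) _ hx
    have h2 : e ^ (2 ^ m - 1) * e = 1 := by
      rw [← pow_succ, Nat.sub_add_cancel Nat.one_le_two_pow, he]
    rw [← MulAut.mul_apply, h2] at h1
    exact h1
  obtain ⟨u, hu, hU, hUN, hk, s, D⟩ := exists_frame_pow R (GG_eq_top hG1) hfix
  have hs : s = 1 := sym_B hn (D.matrix R)
  subst hs
  exact ⟨u, (hT' u).2 hu, hU, hUN, hk, D⟩

omit hA hN hG1 in
/-- elements of `T` fix `Z(T)` -/
theorem conj_fixZ {u z : K} (hu : u ∈ T) (hz : InZ T z) : MulAut.conj u z = z := by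
  rw [MulAut.conj_apply, hz.2 u hu, mul_inv_cancel_right]

/-- **linear elements fix `Z(T)`** -/
theorem fixZ_of_lin (P : Rep M q ψ) (Q : Qd Fr q) {e : MulAut K} {g : Equiv.Perm V} (L : Lf ψ q e 1 g) {m : ℕ}
    (he : e ^ 2 ^ m = 1) (heT : ∀ t ∈ T, e t ∈ T) : FixZ T e := by
  obtain ⟨u, hu, hU, hUN, hk, D⟩ := exists_beta O R hn hG1 T hT he heT
  have L2 := (Lf.conj P u).mul L
  rw [one_mul] at L2
  intro z hz
  obtain ⟨t, rfl⟩ := (mem_X_ne M (i01 hn)).1 ((inZ_iff' O R hn hA hN hG1 T hT).1 hz)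
  have h1 := frame_X O P Q R hn D L2 (hk _ he) (i01 hn) t
  rw [MulAut.mul_apply] at h1
  have h2 : e (M.X (i0 hn) (i1 hn) t) = MulAut.conj u⁻¹ (M.X (i0 hn) (i1 hn) t) := by
    rw [map_inv, MulAut.inv_def, MulEquiv.eq_symm_apply]
    exact h1
  rw [h2]
  exact conj_fixZ O R hn T hT (inv_mem hu) hz

end

/-! ### the Galois group -/

theorem ringAut_cyc {a b : F ≃+* F} (ha : a * a = 1) (hb : b * b = 1) : a = 1 ∨ b = 1 ∨ a⁻¹ * b = 1 := by
  classical
  have hc : IsCyclic (F ≃+* F) := LieRecognition.FieldSemilinear.isCyclic_ringAut F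
  have : Finite (F ≃+* F) := Finite.of_injective (fun g : F ≃+* F => (g : F → F)) DFunLike.coe_injective
  have := Fintype.ofFinite (F ≃+* F)
  by_contra hcon
  push Not at hcon
  obtain ⟨h1, h2, h3⟩ := hcon
  have h4 : ({1, a, b} : Set (F ≃+* F)).ncard ≤ 2 := by
    have h5 := IsCyclic.card_pow_eq_one_le (α := F ≃+* F) (n := 2) (by norm_num)
    refine le_trans ?_ h5
    rw [Set.ncard_eq_toFinset_card']
    apply Finset.card_le_card
    intro x hx
    simp only [Set.mem_toFinset, Set.mem_insert_iff, Set.mem_singleton_iff] at hx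
    simp only [Finset.mem_filter, Finset.mem_univ, true_and]
    rcases hx with rfl | rfl | rfl
    · exact one_pow 2
    · rw [pow_two, ha]
    · rw [pow_two, hb]
  have h6 : a ≠ b := fun h7 => h3 (by rw [h7, inv_mul_cancel])
  have h8 : ({1, a, b} : Set (F ≃+* F)).ncard = 3 := by
    rw [Set.ncard_eq_three]
    exact ⟨1, a, b, Ne.symm h1, Ne.symm h2, h6, rfl⟩
  omega

end Cfsg.Agent.OddHalf.D4.MinusB

end

-- merged: Cfsg.Agent.OddHalf.D4.MinusB.Basis
section

/-!
# ODD, D4, (1B), `PΩ⁻`: the flag basis of a Witt frame with anisotropic plane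

helper328. `fb v w` : `b (0, +), ..., b (n-1, +), v, w, b (n-1, -), ..., b (0, -)`; `fl` : it is a flag basis;
`dat` : the Sylow group; `lifts` : the lifts of the automorphisms.
-/

set_option autoImplicit false
set_option linter.unusedSectionVars false

namespace Cfsg.Agent.OddHalf.D4.MinusB

/-! ### more on unipotent maps -/

section Uni

variable {F V : Type*} [Field F] [AddCommGroup V] [Module F V] {h : V → V → F} {q : V → F} {f : ℕ → V} {n : ℕ}
  {H : Fl h q f n} {g g' : V ≃ₗ[F] V}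

theorem Uni.of_basis (hg : ∀ k, k < 2 * n + 2 → g (f k) + f k ∈ H.Fs k) : H.Uni g := by
  have key : ∀ k, k < 2 * n + 2 → ∀ y ∈ H.Fs (k + 1), g y + y ∈ H.Fs k := by
    intro k
    induction k with
    | zero =>
      intro hk y hy
      obtain ⟨s, w, hw, rfl⟩ := H.dec hk hy
      rw [H.Fs_zero hw, add_zero, map_smul, ← smul_add]
      exact Submodule.smul_mem _ _ (hg 0 hk)
    | succ k ih =>
      intro hk y hy
      obtain ⟨s, w, hw, rfl⟩ := H.dec hk hy
      have h1 := H.Fs_mono (Nat.le_succ k) (ih (by omega) w hw)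
      have h2 := Submodule.smul_mem (H.Fs (k + 1)) s (hg (k + 1) hk)
      have e : g (s • f (k + 1) + w) + (s • f (k + 1) + w) = s • (g (f (k + 1)) + f (k + 1)) + (g w + w) := by
        rw [map_add, map_smul, smul_add]; abel
      rw [e]
      exact add_mem h2 h1
  exact key

theorem Uni.of_mem (hg : H.Uni g) {c : ℕ} {v : V} (hv : g v ∈ H.Fs c) : v ∈ H.Fs c := by
  have hm : ∀ m, v ∈ H.Fs (c + m) → v ∈ H.Fs c := by
    intro m
    induction m with
    | zero => exact fun h => h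
    | succ m ih =>
      intro h
      by_cases hcm : c + m < 2 * n + 2
      · apply ih
        have h2 := hg (c + m) hcm v h
        have h3 := add_mem h2 (H.Fs_mono (show c ≤ c + m by omega) hv)
        have e2 : g v + v + g v = v := by
          calc g v + v + g v = v + (g v + g v) := by abel
            _ = v := by rw [H.addV, add_zero]
        rwa [e2] at h3
      · apply ih
        exact H.Fs_top (by omega) v
  exact hm (2 * n + 2) (H.Fs_top (by omega) v)

theorem Uni.mul (hg : H.Uni g) (hg' : H.Uni g') : H.Uni (g * g') := by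
  intro k hk y hy
  have h1 := hg k hk (g' y) (Fl.Uni.mem hg' hy)
  have h2 := add_mem h1 (hg' k hk y hy)
  have e : g (g' y) + g' y + (g' y + y) = g (g' y) + y := by
    calc g (g' y) + g' y + (g' y + y) = g (g' y) + (g' y + g' y) + y := by abel
      _ = _ := by rw [H.addV, add_zero]
  rwa [e] at h2

theorem Uni.inv (hg : H.Uni g) : H.Uni g⁻¹ := by
  intro k hk y hy
  have e0 : g (g⁻¹ y) = y := g.apply_symm_apply y
  have h1 : g⁻¹ y ∈ H.Fs (k + 1) := Uni.of_mem hg (by rw [e0]; exact hy)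
  have h2 := hg k hk _ h1
  rwa [e0, add_comm] at h2

theorem Uni.one : H.Uni (1 : V ≃ₗ[F] V) := by
  intro k _ y _
  show y + y ∈ _
  rw [H.addV]; exact zero_mem _

/-- trivial on `F (n + 2) / F n` -/
def Tp (H : Fl h q f n) (g : V ≃ₗ[F] V) : Prop := ∀ y ∈ H.Fs (n + 2), g y + y ∈ H.Fs n

theorem Tp.mul (hg' : H.Uni g') (ht : Tp H g) (ht' : Tp H g') : Tp H (g * g') := by
  intro y hy
  have h1 := ht (g' y) (Fl.Uni.mem hg' hy)
  have h2 := add_mem h1 (ht' y hy)
  have e : g (g' y) + g' y + (g' y + y) = g (g' y) + y := by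
    calc g (g' y) + g' y + (g' y + y) = g (g' y) + (g' y + g' y) + y := by abel
      _ = _ := by rw [H.addV, add_zero]
  rwa [e] at h2

theorem Tp.inv (hg : H.Uni g) (ht : Tp H g) : Tp H g⁻¹ := by
  intro y hy
  have e0 : g (g⁻¹ y) = y := g.apply_symm_apply y
  have h1 : g⁻¹ y ∈ H.Fs (n + 2) := Uni.of_mem hg (by rw [e0]; exact hy)
  have h2 := ht _ h1
  rwa [e0, add_comm] at h2

theorem Tp.one : Tp H (1 : V ≃ₗ[F] V) := by
  intro y _
  show y + y ∈ _
  rw [H.addV]; exact zero_mem _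

theorem Tp.of_basis (hg : H.Uni g) (h1 : g (f (n + 1)) + f (n + 1) ∈ H.Fs n) : Tp H g := by
  intro y hy
  obtain ⟨s, w, hw, rfl⟩ := H.dec (k := n + 1) (by omega) hy
  have h2 := hg n (by omega) w hw
  have e : g (s • f (n + 1) + w) + (s • f (n + 1) + w) = s • (g (f (n + 1)) + f (n + 1)) + (g w + w) := by
    rw [map_add, map_smul, smul_add]; abel
  rw [e]
  exact add_mem (Submodule.smul_mem _ _ h1) h2

end Uni

open CoxeterSystem Cfsg.Agent.ChevalleyStructure.CoxeterGeom Cfsg.Agent.Tits.Roots Cfsg.Agent.Nodes.TypeC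
  Cfsg.Agent.Tits.RootComb
open Cfsg.Agent.Nodes.Comb Cfsg.Agent.Nodes.Reps Cfsg.Agent.Nodes.WittRoot Cfsg.Agent.Nodes.BNOf
  Cfsg.Agent.Nodes.StabComb Cfsg.Agent.Nodes.Coroot Cfsg.Agent.Nodes.KindBC Cfsg.Agent.Nodes.TypeCForm
  Cfsg.Agent.Nodes.Bruhat Cfsg.Agent.Nodes.PosPair Cfsg.Agent.Nodes.OppDec
open Cfsg.Agent Cfsg.Agent.TitsThree Cfsg.Agent.TitsThree.Siegel Cfsg.Agent.TitsThree.WittFrame
  Cfsg.Agent.TitsThree.WittWeyl Cfsg.Agent.TitsThree.FrameCN Cfsg.Agent.TitsThree.LineBorel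
open Cfsg.Agent.KFacts.WittOrth Cfsg.Agent.OddHalf.DblR.MinusComb Cfsg.Agent.OddHalf.DblR.SheetMinus
open Cfsg.Agent.KFacts.RgdAut Cfsg.Agent.KFacts.RgdDiag Cfsg.Agent.KFacts.RgdRigid Cfsg.Agent.KFacts.RgdTI
  Cfsg.Agent.KFacts.RgdCent Cfsg.Agent.OddHalf.D4.Free

variable {F : Type*} [Field F] {V : Type*} [AddCommGroup V] [Module F V] {H : HForm F V} {n : ℕ}
  {Fr : Frame H (Fin n)} {K : Type*} [Group K] {M : Model Fr K} {ψ : K →* (V ≃ₗ[F] V)} {q : V → F}

/-! ### the plane -/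

section Plane

variable (O : KFacts.WittOrth.Orth Fr) (hP : DblR.MinusTor.IsPlane Fr)

include O hP

theorem plane_cut {v x : V} (hv : v ∈ Fr.V0) (hv0 : v ≠ 0) (hx : x ∈ Fr.V0) (h : H.h x v = 0) : ∃ c : F, x = c • v := by
  obtain ⟨q', v0, w0, P, -⟩ := hP
  obtain ⟨α, β, hv'⟩ := P.span ⟨v, hv⟩
  obtain ⟨γ, δ, hx'⟩ := P.span ⟨x, hx⟩
  have ev : v = α • v0.1 + β • w0.1 := congrArg Subtype.val hv'
  have ex : x = γ • v0.1 + δ • w0.1 := congrArg Subtype.val hx'
  have p1 : H.h v0.1 w0.1 = 1 := P.pair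
  have p2 : H.h w0.1 v0.1 = 1 := by rw [O.h_comm]; exact p1
  have s1 : H.h v0.1 v0.1 = 0 := by
    obtain ⟨p, hp⟩ := O.exists_adm v0.2
    rw [← hp]; exact O.h_self p
  have s2 : H.h w0.1 w0.1 = 0 := by
    obtain ⟨p, hp⟩ := O.exists_adm w0.2
    rw [← hp]; exact O.h_self p
  rw [ex, ev, H.add_left, H.smul_left, H.smul_left, H.add_right, H.add_right, H.smul_right, H.smul_right, H.smul_right,
    H.smul_right, O.σ, O.σ, p1, p2, s1, s2] at h
  have h1 : γ * β + δ * α = 0 := by linear_combination h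
  have h2 := O.eq_of_add h1
  by_cases hα : α = 0
  · have hβ : β ≠ 0 := by
      rintro rfl
      apply hv0
      rw [ev, hα, zero_smul, zero_smul, add_zero]
    have hγ : γ = 0 := by
      rw [hα, mul_zero] at h2
      exact (mul_eq_zero.1 h2).resolve_right hβ
    refine ⟨δ / β, ?_⟩
    rw [ex, ev, hα, hγ, zero_smul, zero_add, zero_add, smul_smul, div_mul_cancel₀ _ hβ]
  · refine ⟨γ / α, ?_⟩
    rw [ex, ev, smul_add, smul_smul, smul_smul, div_mul_cancel₀ _ hα]
    congr 2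
    field_simp
    rw [h2]

end Plane

/-! ### the basis -/

/-- the flag basis -/
noncomputable def fb (Fr : Frame H (Fin n)) (v w : V) (k : ℕ) : V :=
  if h : k < n then Fr.b (⟨k, h⟩, true) else if k = n then v else if k = n + 1 then w else
    if h : 2 * n + 1 - k < n then Fr.b (⟨2 * n + 1 - k, h⟩, false) else 0

theorem fb_ps (v w : V) (x : Fin n × Bool) : fb Fr v w (ps x) = Fr.b x := by
  rcases ps_cases x with ⟨h1, h2, h3⟩ | ⟨h1, h2, h3⟩
  · unfold fb
    rw [dif_pos (by omega)]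
    congr 1
    exact Prod.ext (Fin.ext h2) h1.symm
  · unfold fb
    rw [dif_neg (by omega), if_neg (by omega), if_neg (by omega), dif_pos (by omega)]
    congr 1
    exact Prod.ext (Fin.ext (by simp only; omega)) h1.symm

theorem fb_n (v w : V) : fb Fr v w n = v := by
  unfold fb
  rw [dif_neg (by omega), if_pos rfl]

theorem fb_n1 (v w : V) : fb Fr v w (n + 1) = w := by
  unfold fb
  rw [dif_neg (by omega), if_neg (by omega), if_pos rfl]

theorem k_cases {k : ℕ} (hk : k < 2 * n + 2) : (∃ x : Fin n × Bool, k = ps x) ∨ k = n ∨ k = n + 1 := by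
  by_cases h1 : k < n
  · exact Or.inl ⟨(⟨k, h1⟩, true), rfl⟩
  · by_cases h2 : k = n
    · exact Or.inr (Or.inl h2)
    · by_cases h3 : k = n + 1
      · exact Or.inr (Or.inr h3)
      · refine Or.inl ⟨(⟨2 * n + 1 - k, by omega⟩, false), ?_⟩
        rw [ps_false]
        simp only
        omega

theorem ps_ne (x : Fin n × Bool) : ps x ≠ n ∧ ps x ≠ n + 1 := by
  rcases ps_cases x with ⟨h1, h2, h3⟩ | ⟨h1, h2, h3⟩ <;> omega

/-- **the flag basis** -/
theorem fl (O : KFacts.WittOrth.Orth Fr) (Q : Qd Fr q) (hP : DblR.MinusTor.IsPlane Fr) {v w : V} (hv : v ∈ Fr.V0)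
    (hw : w ∈ Fr.V0) (hvw : H.h v w ≠ 0) : Fl H.h q (fb Fr v w) n where
  two := O.two
  add_left := H.add_left
  smul_left := H.smul_left
  comm := O.h_comm
  self := h_self' O Q
  qadd := Q.qadd
  qsmul := Q.qsmul
  pair := by
    intro i hi
    rcases k_cases hi with ⟨x, rfl⟩ | rfl | rfl
    · have h1 := ps_ng x
      rw [show 2 * n + 1 - ps x = ps (ng x) by omega, fb_ps, fb_ps, O.hbb]
      exact one_ne_zero
    · rw [show 2 * i + 1 - i = i + 1 by omega, fb_n, fb_n1]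
      exact hvw
    · rw [show 2 * n + 1 - (n + 1) = n by omega, fb_n, fb_n1, O.h_comm]
      exact hvw
  orth := by
    intro i j hi hj hij
    rcases k_cases hi with ⟨x, rfl⟩ | rfl | rfl <;> rcases k_cases hj with ⟨y, rfl⟩ | rfl | rfl
    · rw [fb_ps, fb_ps]
      apply Fr.hb_ne
      intro h1
      apply hij
      have h2 : y = ng x := h1
      rw [h2, ps_ng]
    · rw [fb_ps, fb_n]; exact Fr.h0 x v hv
    · rw [fb_ps, fb_n1]; exact Fr.h0 x w hw
    · rw [fb_ps, fb_n]; exact Fr.h0' y hv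
    · exact h_self' O Q _
    · omega
    · rw [fb_ps, fb_n1]; exact Fr.h0' y hw
    · omega
    · exact h_self' O Q _
  sing := by
    intro i hi
    have h1 : i = ps ((⟨i, hi⟩, true) : Fin n × Bool) := rfl
    rw [h1, fb_ps]
    exact Q.qb _
  nd := by
    intro y hy
    have h1 : y ∈ Fr.V0 := by
      apply O.V0
      intro x
      have := hy (ps x) (ps_lt x)
      rwa [fb_ps] at this
    have h2 := hy n (by omega)
    have h3 := hy (n + 1) (by omega)
    rw [fb_n] at h2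
    rw [fb_n1] at h3
    have hv0 : v ≠ 0 := by rintro rfl; exact hvw (H.zero_left _)
    obtain ⟨c, rfl⟩ := plane_cut O hP hv hv0 h1 h2
    rw [H.smul_left] at h3
    rw [(mul_eq_zero.1 h3).resolve_right hvw, zero_smul]

/-! ### membership in the flag -/

section Mem

variable (O : KFacts.WittOrth.Orth Fr) (Q : Qd Fr q) (hP : DblR.MinusTor.IsPlane Fr) {v w : V} (hv : v ∈ Fr.V0)
  (hw : w ∈ Fr.V0) (hvw : H.h v w ≠ 0)

theorem b_mem {x : Fin n × Bool} {k : ℕ} (hk : ps x < k) : Fr.b x ∈ (fl O Q hP hv hw hvw).Fs k := by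
  have := (fl O Q hP hv hw hvw).f_mem hk (ps_lt x)
  rwa [fb_ps] at this

theorem V0_mem {y : V} (hy : y ∈ Fr.V0) {k : ℕ} (hk : n + 2 ≤ k) : y ∈ (fl O Q hP hv hw hvw).Fs k := by
  intro j hj
  have h1 : j = ps ((⟨j, by omega⟩, true) : Fin n × Bool) := rfl
  rw [h1, fb_ps]
  exact Fr.h0' _ hy

/-- the long root groups -/
theorem uni_X {x y : Fin n × Bool} (hxy : x.1 ≠ y.1) (hpos : ps x + ps y < 2 * n + 1) (t : F) :
    (fl O Q hP hv hw hvw).Uni (Fr.X x y t) ∧ Tp (fl O Q hP hv hw hvw) (Fr.X x y t) := by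
  have hV : ∀ z ∈ Fr.V0, Fr.X x y t z + z = 0 := by
    intro z hz
    rw [X_apply_V0 Fr hxy hz, O.addV]
  have hU : (fl O Q hP hv hw hvw).Uni (Fr.X x y t) := by
    apply Uni.of_basis
    intro k hk
    rcases k_cases hk with ⟨z, rfl⟩ | rfl | rfl
    · rw [fb_ps, X_ap O hxy]
      have hx := ps_ng x
      have hy := ps_ng y
      by_cases h1 : z = ng x
      · subst h1
        have e1 : H.h (Fr.b (ng x)) (Fr.b y) = 0 := Fr.hb_of_ne (x := ng x) (y := y) hxy
        rw [O.hbb', e1, mul_zero, zero_smul, add_zero, add_right_comm, O.addV, zero_add]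
        exact Submodule.smul_mem _ _ (b_mem O Q hP hv hw hvw (by omega))
      · by_cases h2 : z = ng y
        · subst h2
          have e1 : H.h (Fr.b (ng y)) (Fr.b x) = 0 := Fr.hb_of_ne (x := ng y) (y := x) hxy.symm
          rw [O.hbb', e1, mul_zero, zero_smul, add_zero, add_right_comm, O.addV, zero_add]
          exact Submodule.smul_mem _ _ (b_mem O Q hP hv hw hvw (by omega))
        · have e1 : H.h (Fr.b z) (Fr.b x) = 0 := Fr.hb_ne (fun h => h1 (by rw [h]; exact (ng_ng z).symm))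
          have e2 : H.h (Fr.b z) (Fr.b y) = 0 := Fr.hb_ne (fun h => h2 (by rw [h]; exact (ng_ng z).symm))
          rw [e1, e2, mul_zero, zero_smul, zero_smul, add_zero, add_zero, O.addV]
          exact zero_mem _
    · rw [fb_n, hV v hv]; exact zero_mem _
    · rw [fb_n1, hV w hw]; exact zero_mem _
  refine ⟨hU, Tp.of_basis hU ?_⟩
  rw [fb_n1, hV w hw]; exact zero_mem _

/-- the short root groups -/
theorem uni_Z {x : Fin n × Bool} (hpos : ps x + ps x < 2 * n + 1) (p : Fr.Adm) :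
    (fl O Q hP hv hw hvw).Uni (Fr.Z x p) ∧ Tp (fl O Q hP hv hw hvw) (Fr.Z x p) := by
  have hx := ps_ng x
  have hxn : ps x < n := by
    have := ps_ne x
    omega
  have hV : ∀ z ∈ Fr.V0, Fr.Z x p z + z ∈ (fl O Q hP hv hw hvw).Fs n := by
    intro z hz
    rw [Z_ap O, Fr.h0' x hz, zero_smul, add_zero, mul_zero, zero_smul, add_zero, add_right_comm, O.addV, zero_add]
    exact Submodule.smul_mem _ _ (b_mem O Q hP hv hw hvw hxn)
  have hU : (fl O Q hP hv hw hvw).Uni (Fr.Z x p) := by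
    apply Uni.of_basis
    intro k hk
    rcases k_cases hk with ⟨z, rfl⟩ | rfl | rfl
    · rw [fb_ps, Z_ap O, Fr.h0 _ _ (Fr.ok_mem p.ok), zero_smul, add_zero]
      by_cases h1 : z = ng x
      · subst h1
        rw [O.hbb', one_smul, mul_one]
        have e : Fr.b (ng x) + p.w + p.c • Fr.b x + Fr.b (ng x) = p.w + p.c • Fr.b x := by
          calc Fr.b (ng x) + p.w + p.c • Fr.b x + Fr.b (ng x) = (Fr.b (ng x) + Fr.b (ng x)) + (p.w + p.c • Fr.b x) := by
                abel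
            _ = _ := by rw [O.addV, zero_add]
        rw [e]
        exact add_mem (V0_mem O Q hP hv hw hvw (Fr.ok_mem p.ok) (by omega))
          (Submodule.smul_mem _ _ (b_mem O Q hP hv hw hvw (by omega)))
      · have e1 : H.h (Fr.b z) (Fr.b x) = 0 := Fr.hb_ne (fun h => h1 (by rw [h]; exact (ng_ng z).symm))
        rw [e1, zero_smul, mul_zero, zero_smul, add_zero, add_zero, O.addV]
        exact zero_mem _
    · rw [fb_n]; exact hV v hv
    · rw [fb_n1]
      exact (fl O Q hP hv hw hvw).Fs_mono (Nat.le_succ n) (hV w hw)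
  refine ⟨hU, Tp.of_basis hU ?_⟩
  rw [fb_n1]; exact hV w hw

end Mem

end Cfsg.Agent.OddHalf.D4.MinusB

end

-- merged: Cfsg.Agent.OddHalf.D4.MinusB.Graph
section

/-!
# ODD, D4, (1B), `PΩ⁻`: the graph part, the fixed vector, the filtration

helper328.
-/

set_option autoImplicit false
set_option linter.unusedSectionVars false

namespace Cfsg.Agent.OddHalf.D4.MinusB

open CoxeterSystem Cfsg.Agent.ChevalleyStructure.CoxeterGeom Cfsg.Agent.Tits.Roots Cfsg.Agent.Nodes.TypeC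
  Cfsg.Agent.Tits.RootComb
open Cfsg.Agent.Nodes.Comb Cfsg.Agent.Nodes.Reps Cfsg.Agent.Nodes.WittRoot Cfsg.Agent.Nodes.BNOf
  Cfsg.Agent.Nodes.StabComb Cfsg.Agent.Nodes.Coroot Cfsg.Agent.Nodes.KindBC Cfsg.Agent.Nodes.TypeCForm
  Cfsg.Agent.Nodes.Bruhat Cfsg.Agent.Nodes.PosPair Cfsg.Agent.Nodes.OppDec
open Cfsg.Agent Cfsg.Agent.TitsThree Cfsg.Agent.TitsThree.Siegel Cfsg.Agent.TitsThree.WittFrame
  Cfsg.Agent.TitsThree.WittWeyl Cfsg.Agent.TitsThree.FrameCN Cfsg.Agent.TitsThree.LineBorel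
open Cfsg.Agent.KFacts.WittOrth Cfsg.Agent.OddHalf.DblR.MinusComb Cfsg.Agent.OddHalf.DblR.SheetMinus
open Cfsg.Agent.KFacts.RgdAut Cfsg.Agent.KFacts.RgdDiag Cfsg.Agent.KFacts.RgdRigid Cfsg.Agent.KFacts.RgdTI
  Cfsg.Agent.KFacts.RgdCent Cfsg.Agent.OddHalf.D4.Free

variable {F : Type*} [Field F] {V : Type*} [AddCommGroup V] [Module F V] {H : HForm F V} {n : ℕ}
  {Fr : Frame H (Fin n)} {K : Type*} [Group K] {M : Model Fr K} {ψ : K →* (V ≃ₗ[F] V)} {q : V → F}
  {W : Type*} [Group W] {cs : CoxeterSystem (CoxeterMatrix.B n) W} [Finite W] {Tor : Subgroup K} {nn : Fin n → K}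
  [Finite F] [Finite V]

/-- the linear version of a lift with `σ = 1` -/
def Lf.toLin {α : MulAut K} {g : Equiv.Perm V} (L : Lf ψ q α 1 g) : V ≃ₗ[F] V :=
  { g with map_add' := L.add, map_smul' := L.smul }

theorem Lf.toLin_apply {α : MulAut K} {g : Equiv.Perm V} (L : Lf ψ q α 1 g) (v : V) : L.toLin v = g v := rfl

/-- the setup -/
structure Ctx (M : Model Fr K) (ψ : K →* (V ≃ₗ[F] V)) (q : V → F) (cs : CoxeterSystem (CoxeterMatrix.B n) W)
    (Tor : Subgroup K) (nn : Fin n → K) (T : Sylow 2 K) : Prop where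
  O : KFacts.WittOrth.Orth Fr
  P : Rep M q ψ
  Q : Qd Fr q
  R : RGD cs (isCartan n) 2 Tor nn (Nodes.WittModel.X M)
  hn : 3 ≤ n
  hA : Nodes.WittAll.AmbT Fr 2 M.I
  hN : NoCent cs (isCartan n) Tor (Nodes.WittModel.X M)
  hG1 : RGD.Sup (Nodes.WittModel.X M) {x | IsRoot cs (isCartan n) x} = ⊤
  hT : (T : Subgroup K) = RGD.Sup (Nodes.WittModel.X M) (RGD.Pos cs (isCartan n))
  hP : DblR.MinusTor.IsPlane Fr
  lift : ∀ α : MulAut K, ∃ (σ : F ≃+* F) (g : Equiv.Perm V), Lf ψ q α σ g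

variable {T : Sylow 2 K} (C : Ctx M ψ q cs Tor nn T)

include C

namespace Ctx

theorem mem_T {x : K} : x ∈ T ↔ x ∈ RGD.Sup (Nodes.WittModel.X M) (RGD.Pos cs (isCartan n)) := by rw [← C.hT]; rfl

theorem iso_of {g : V ≃ₗ[F] V} (hq : ∀ v, q (g v) = q v) : Iso H.h q g := by
  refine ⟨fun u v => ?_, hq⟩
  have h1 := C.Q.qadd (g u) (g v)
  rw [← map_add, hq, hq, hq, C.Q.qadd] at h1
  exact (add_left_cancel h1).symm

/-- **the data of the Sylow group** -/
theorem dat {v w : V} (hv : v ∈ Fr.V0) (hw : w ∈ Fr.V0) (hvw : H.h v w ≠ 0) :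
    Dat (fl C.O C.Q C.hP hv hw hvw) ψ (T : Subgroup K) := by
  have hO := C.O
  have key : ∀ u ∈ T, (fl C.O C.Q C.hP hv hw hvw).Uni (ψ u) ∧ Tp (fl C.O C.Q C.hP hv hw hvw) (ψ u) := by
    let S : Subgroup K :=
      { carrier := {u | (fl C.O C.Q C.hP hv hw hvw).Uni (ψ u) ∧ Tp (fl C.O C.Q C.hP hv hw hvw) (ψ u)}
        mul_mem' := by
          rintro a b ⟨h1, h2⟩ ⟨h3, h4⟩
          refine ⟨?_, ?_⟩
          · rw [map_mul]; exact Uni.mul h1 h3
          · rw [map_mul]; exact Tp.mul h3 h2 h4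
        one_mem' := ⟨by rw [map_one]; exact Uni.one, by rw [map_one]; exact Tp.one⟩
        inv_mem' := by
          rintro a ⟨h1, h2⟩
          exact ⟨by rw [map_inv]; exact Uni.inv h1, by rw [map_inv]; exact Tp.inv h1 h2⟩ }
    have hS : RGD.Sup (Nodes.WittModel.X M) (RGD.Pos cs (isCartan n)) ≤ S := by
      refine RGD.Sup_le fun r hr => ?_
      obtain ⟨x, y, hxy, rfl, hlt⟩ := exists_of_pos cs hr
      rcases hxy with hxy | rfl
      · intro u hu
        obtain ⟨t, rfl⟩ := (mem_X_ne M hxy).1 hu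
        have := uni_X C.O C.Q C.hP hv hw hvw hxy hlt t
        rw [← C.P.X] at this
        exact this
      · intro u hu
        obtain ⟨p, rfl⟩ := (mem_X_self M).1 hu
        have := uni_Z C.O C.Q C.hP hv hw hvw hlt p
        rw [← C.P.Z] at this
        exact this
    intro u hu
    exact hS (C.mem_T.1 hu)
  refine ⟨C.P.inj, fun u _ => C.iso_of (C.P.q u), fun u hu => (key u hu).1, fun u hu => (key u hu).2, ?_⟩
  intro i k hi hik hk s
  obtain ⟨x, hx⟩ : ∃ x : Fin n × Bool, x = (⟨i, hi⟩, true) := ⟨_, rfl⟩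
  have hpx : ps x = i := by rw [hx]; rfl
  have hfi : fb Fr v w i = Fr.b x := by rw [← hpx, fb_ps]
  have short : ∀ z ∈ Fr.V0, fb Fr v w k = z → ∃ u ∈ (T : Subgroup K), Sieg H.h q (fb Fr v w) i k s (ψ u) := by
    intro z hz hkz
    obtain ⟨p, hp⟩ := C.O.exists_adm hz
    refine ⟨M.Z x (Frame.Adm.smul s p), C.mem_T.2 (RGD.le_Sup (rt_pos cs (Or.inr rfl) (by omega))
      ((mem_X_self M).2 ⟨_, rfl⟩)), ?_⟩
    intro y
    have hc : p.c = q z := by rw [← hp]; exact adm_c' C.O C.Q p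
    rw [C.P.Z, Z_ap C.O, hfi, hkz, Frame.Adm.smul_w, C.O.adm_c, hp, H.smul_right, C.O.σ, smul_smul, hc]
    congr 2
    congr 2
    rw [mul_comm]
  rcases k_cases (show k < 2 * n + 2 by omega) with ⟨y, rfl⟩ | hkn | hkn
  · have hxy : x.1 ≠ y.1 := by
      intro h1
      rcases cases_eq h1.symm with h2 | h2
      · rw [h2] at hik; omega
      · rw [h2] at hk
        have := ps_ng x
        omega
    refine ⟨M.X x y s, C.mem_T.2 (RGD.le_Sup (rt_pos cs (Or.inl hxy) (by omega))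
      ((mem_X_ne M hxy).2 ⟨_, rfl⟩)), ?_⟩
    intro z
    rw [C.P.X, X_ap C.O hxy, hfi, fb_ps, C.Q.qb, mul_zero, zero_mul, zero_smul, add_zero]
  · exact short v hv (by rw [hkn, fb_n])
  · exact short w hw (by rw [hkn, fb_n1])

omit C in
/-- the frame parts of the elements of `C_A(Z(T))` -/
def BB (_C : Ctx M ψ q cs Tor nn T) (A : Subgroup (MulAut K)) (hA : GoodA T A) : Subgroup (MulAut K) where
  carrier := {β | (∃ e ∈ A, FixZ T e ∧ ∃ u ∈ T, β = MulAut.conj u * e) ∧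
    Fix β (RGD.Sup (Nodes.WittModel.X M) (RGD.Pos cs (isCartan n))) ∧ Fix β (UN cs (isCartan n) (Nodes.WittModel.X M))}
  mul_mem' := by
    rintro β β' ⟨⟨e, he, hez, u, hu, rfl⟩, h1, h2⟩ ⟨⟨e', he', hez', u', hu', rfl⟩, h3, h4⟩
    refine ⟨⟨e * e', mul_mem he he', fun z hz => by rw [MulAut.mul_apply, hez' z hz, hez z hz], u * e u',
      mul_mem hu (hA.norm e he u' hu'), ?_⟩, h1.mul h3, h2.mul h4⟩
    ext x
    simp only [MulAut.mul_apply, MulAut.conj_apply, map_mul, map_inv, mul_inv_rev, mul_assoc]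
  one_mem' := ⟨⟨1, one_mem _, fun _ _ => rfl, 1, one_mem _, by rw [map_one, one_mul]⟩, fun _ => Iff.rfl, fun _ => Iff.rfl⟩
  inv_mem' := by
    rintro β ⟨⟨e, he, hez, u, hu, rfl⟩, h1, h2⟩
    refine ⟨⟨e⁻¹, inv_mem he, fun z hz => ?_, e⁻¹ u⁻¹, hA.norm _ (inv_mem he) _ (inv_mem hu), ?_⟩, h1.inv, h2.inv⟩
    · conv_lhs => rw [← hez z hz]
      exact MulAut.inv_apply_self _ _ _
    · rw [mul_inv_rev]
      ext x
      rw [MulAut.mul_apply, MulAut.mul_apply, MulAut.conj_inv_apply, MulAut.conj_apply, map_mul, map_mul, map_inv, inv_inv]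

variable {A : Subgroup (MulAut K)} (hA : GoodA T A)

theorem mem_BB {β : MulAut K} : β ∈ C.BB A hA ↔ (∃ e ∈ A, FixZ T e ∧ ∃ u ∈ T, β = MulAut.conj u * e) ∧
    Fix β (RGD.Sup (Nodes.WittModel.X M) (RGD.Pos cs (isCartan n))) ∧
      Fix β (UN cs (isCartan n) (Nodes.WittModel.X M)) := Iff.rfl

theorem exists_pow {A : Subgroup (MulAut K)} (hA : GoodA T A) {e : MulAut K} (he : e ∈ A) : ∃ m : ℕ, e ^ 2 ^ m = 1 := by
  obtain ⟨m, hm⟩ := hA.two ⟨e, he⟩
  exact ⟨m, by simpa using congrArg Subtype.val hm⟩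

/-- the frame part of an element of `C_A(Z(T))` -/
theorem exists_BB {e : MulAut K} (he : e ∈ A) (hez : FixZ T e) : ∃ u ∈ T, MulAut.conj u * e ∈ C.BB A hA := by
  obtain ⟨m, hm⟩ := C.exists_pow hA he
  obtain ⟨u, hu, hU, hUN, -, -⟩ := exists_beta C.O C.R C.hn C.hG1 T C.hT hm (hA.norm e he)
  exact ⟨u, hu, ⟨e, he, hez, u, hu, rfl⟩, hU, hUN⟩

/-- the properties of the elements of `BB` -/
theorem BB_facts {β : MulAut K} (hβ : β ∈ C.BB A hA) : (∃ m : ℕ, β ^ 2 ^ m = 1) ∧ Diag Tor (Nodes.WittModel.X M) β 1 ∧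
    ∃ g : Equiv.Perm V, Lf ψ q β 1 g := by
  obtain ⟨⟨e, he, hez, u, hu, rfl⟩, h1, h2⟩ := hβ
  obtain ⟨m, hm⟩ := C.exists_pow hA he
  have hG := GG_eq_top (T := Tor) C.hG1
  have heU : Fix e (RGD.Sup (Nodes.WittModel.X M) (RGD.Pos cs (isCartan n))) := by
    intro x
    have h3 := h1 x
    rw [MulAut.mul_apply, MulAut.conj_apply] at h3
    rw [← h3]
    have hu' := C.mem_T.1 hu
    constructor
    · intro h4; exact mul_mem (mul_mem hu' h4) (inv_mem hu')
    · intro h4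
      have := mul_mem (mul_mem (inv_mem hu') h4) hu'
      have e1 : u⁻¹ * (u * e x * u⁻¹) * u = e x := by group
      rwa [e1] at this
  refine ⟨⟨m, pow_eq_one_of_frame C.R hG heU (C.mem_T.1 hu) h2 hm⟩, ?_, ?_⟩
  · obtain ⟨s, D⟩ := exists_diag C.R hG h1 h2
    have hs : s = 1 := sym_B C.hn (D.matrix C.R)
    rwa [hs] at D
  · obtain ⟨σ, g, L⟩ := C.lift e
    have h3 := sigma_of_fixZ C.O C.R C.hn C.hA C.hN C.hG1 T C.hT C.P L hez
    subst h3
    have L2 := (Lf.conj C.P u).mul L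
    rw [one_mul] at L2
    exact ⟨_, L2⟩

theorem BB_two : IsPGroup 2 ↥(C.BB A hA) := by
  rintro ⟨β, hβ⟩
  obtain ⟨⟨m, hm⟩, -⟩ := C.BB_facts hA hβ
  exact ⟨m, Subtype.ext (by simpa using hm)⟩

/-- **the fixed vector** -/
theorem exists_v : ∃ v ∈ Fr.V0, v ≠ 0 ∧ ∀ β ∈ C.BB A hA, ∀ g : Equiv.Perm V, Lf ψ q β 1 g → g v = v := by
  have hn := C.hn
  let x : Fin n × Bool := i0 hn
  let Xs := Nodes.WittModel.X M (rt x x)
  have hD : ∀ β ∈ C.BB A hA, ∀ z, β z ∈ Xs ↔ z ∈ Xs := by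
    intro β hβ z
    obtain ⟨-, D, -⟩ := C.BB_facts hA hβ
    exact D.root_comp C.R (fun _ _ => rfl) (isRoot_rt cs (Or.inr rfl)) z
  let act : MulAction ↥(C.BB A hA) ↥Xs :=
    { smul := fun β z => ⟨β.1 z.1, (hD β.1 β.2 z.1).2 z.2⟩
      one_smul := fun z => Subtype.ext rfl
      mul_smul := fun β β' z => Subtype.ext rfl }
  have hfin : Finite K := Finite.of_injective (fun u => ((ψ u : V ≃ₗ[F] V) : V → V)) (fun a b hab => C.P.inj
    (LinearEquiv.ext fun v => congrFun hab v))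
  obtain ⟨p0, hp0⟩ := C.O.p0
  have h1 : M.Z x p0 ≠ 1 := by
    intro h2
    have h3 : Fr.Z x p0 = 1 := by rw [← C.P.Z, h2, map_one]
    rw [C.O.z_inj h3] at hp0
    exact hp0 Frame.Adm.one_c
  have hcard : 2 ∣ Nat.card ↥Xs := by
    have h2 : orderOf (⟨M.Z x p0, (mem_X_self M).2 ⟨p0, rfl⟩⟩ : ↥Xs) = 2 := by
      apply orderOf_eq_prime
      · apply Subtype.ext
        show M.Z x p0 ^ 2 = 1
        apply C.P.inj
        rw [map_pow, C.P.Z, pow_two, C.O.z_sq, map_one]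
      · intro h3
        exact h1 (congrArg Subtype.val h3)
    rw [← h2]
    exact orderOf_dvd_natCard _
  have : Fact (Nat.Prime 2) := ⟨Nat.prime_two⟩
  obtain ⟨z, hz, hz1⟩ := (C.BB_two hA).exists_fixed_point_of_prime_dvd_card_of_fixed_point ↥Xs hcard (a := 1)
    (fun β => Subtype.ext (map_one β.1))
  obtain ⟨p, hp⟩ := (mem_X_self M).1 z.2
  refine ⟨p.w, Fr.ok_mem p.ok, ?_, ?_⟩
  · intro h2
    apply hz1
    apply Subtype.ext
    show (1 : K) = z.1
    rw [hp, C.O.adm_one' h2]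
    apply C.P.inj
    rw [map_one, C.P.Z, Fr.Z_one]
  · intro β hβ g L
    obtain ⟨⟨m, hm⟩, D, -⟩ := C.BB_facts hA hβ
    have h2 : β (M.Z x p) = M.Z x p := by
      have h3 := congrArg Subtype.val (hz ⟨β, hβ⟩)
      have h4 : β z.1 = z.1 := h3
      rwa [hp] at h4
    exact ((frame_Z C.O C.P C.Q C.R hn D L hm).1 h2).symm

/-- the action on the plane -/
theorem BB_w {v w : V} (hv : v ∈ Fr.V0) (hw : w ∈ Fr.V0) (hvw : H.h v w ≠ 0)
    {β : MulAut K} (hβ : β ∈ C.BB A hA) {g : Equiv.Perm V} (L : Lf ψ q β 1 g) (hgv : g v = v) :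
    ∃ c : F, g w = w + c • v ∧ (c = 0 ∨ c * q v = H.h w v) := by
  obtain ⟨⟨m, hm⟩, D, -⟩ := C.BB_facts hA hβ
  have hO := C.O
  have hgw : g w ∈ Fr.V0 := L.V0 C.O C.P C.Q (frame_b C.O C.P C.Q C.R C.hn D L) hw
  have h1 : H.h (g w + w) v = 0 := by
    have h2 := L.h C.Q w v
    rw [hgv] at h2
    rw [H.add_left, h2]
    exact C.O.add_self _
  have hv0 : v ≠ 0 := by rintro rfl; exact hvw (H.zero_left _)
  obtain ⟨c, hc⟩ := plane_cut C.O C.hP hv hv0 (add_mem hgw hw) h1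
  have h3 : g w = w + c • v := by
    rw [← hc, add_comm (g w), ← add_assoc, C.O.addV, zero_add]
  refine ⟨c, h3, ?_⟩
  have h4 := L.q w
  rw [h3, C.Q.qadd, C.Q.qsmul, H.smul_right, C.O.σ] at h4
  have h5 : c * (c * q v + H.h w v) = 0 := by
    have h6 : q w + c * c * q v + c * H.h w v = q w := h4
    linear_combination h6
  rcases mul_eq_zero.1 h5 with h6 | h6
  · exact Or.inl h6
  · exact Or.inr (C.O.eq_of_add h6)

/-- an element of `BB` which is trivial on the plane is trivial -/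
theorem BB_eq_one {v w : V} (hv : v ∈ Fr.V0) (hw : w ∈ Fr.V0) (hvw : H.h v w ≠ 0)
    {β : MulAut K} (hβ : β ∈ C.BB A hA) {g : Equiv.Perm V} (L : Lf ψ q β 1 g) (hgv : g v = v) (hgw : g w = w) :
    β = 1 := by
  obtain ⟨⟨m, hm⟩, D, -⟩ := C.BB_facts hA hβ
  have hb := frame_lin C.O C.P C.Q C.R C.hn D L hm
  have h0 : ∀ y ∈ Fr.V0, L.toLin y = y := by
    intro y hy
    have hv0 : v ≠ 0 := by rintro rfl; exact hvw (H.zero_left _)
    have hwv : H.h w v ≠ 0 := by rw [C.O.h_comm]; exact hvw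
    have h1 : H.h (y + (H.h y v / H.h w v) • w) v = 0 := by
      rw [H.add_left, H.smul_left, div_mul_cancel₀ _ hwv]
      exact C.O.add_self _
    obtain ⟨c, hc⟩ := plane_cut C.O C.hP hv hv0 (add_mem hy (Submodule.smul_mem _ _ hw)) h1
    have h2 : y = c • v + (H.h y v / H.h w v) • w := by
      rw [← hc, add_assoc, C.O.addV, add_zero]
    rw [h2, map_add, map_smul, map_smul, L.toLin_apply, L.toLin_apply, hgv, hgw]
  have h1 : L.toLin = 1 := C.O.eq_one hb h0
  have h2 : ∀ y, g y = y := fun y => congrArg (fun k : V ≃ₗ[F] V => k y) h1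
  ext x
  apply C.P.inj
  ext y
  have h3 := L.it x y
  rw [h2, h2] at h3
  exact h3

include hA

/-- **(k4)** -/
theorem graph {a b : MulAut K} (ha : a ∈ A) (hb : b ∈ A) (haz : FixZ T a) (hbz : FixZ T b) :
    a ∈ (MulAut.conj : K →* MulAut K).range ∨ b ∈ (MulAut.conj : K →* MulAut K).range ∨
      a⁻¹ * b ∈ (MulAut.conj : K →* MulAut K).range := by
  obtain ⟨u, hu, hua⟩ := C.exists_BB hA ha haz
  obtain ⟨u', hu', hub⟩ := C.exists_BB hA hb hbz
  obtain ⟨v, hv, hv0, hfix⟩ := C.exists_v hA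
  obtain ⟨w, hw, hvw⟩ : ∃ w ∈ Fr.V0, H.h v w ≠ 0 := by
    by_contra hcon
    push Not at hcon
    exact hv0 (C.O.nd v hv hcon)
  obtain ⟨-, -, g, L⟩ := C.BB_facts hA hua
  obtain ⟨-, -, g', L'⟩ := C.BB_facts hA hub
  have hgv := hfix _ hua _ L
  have hgv' := hfix _ hub _ L'
  obtain ⟨c, hc, hc2⟩ := C.BB_w hA hv hw hvw hua L hgv
  obtain ⟨c', hc', hc2'⟩ := C.BB_w hA hv hw hvw hub L' hgv'
  have hin : ∀ {u : K} {e : MulAut K}, MulAut.conj u * e = 1 → e ∈ (MulAut.conj : K →* MulAut K).range := by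
    intro u e h1
    exact ⟨u⁻¹, by rw [map_inv]; exact inv_eq_of_mul_eq_one_right h1⟩
  by_cases h0 : c = 0
  · left
    apply hin (C.BB_eq_one hA hv hw hvw hua L hgv ?_)
    rw [hc, h0, zero_smul, add_zero]
  by_cases h0' : c' = 0
  · right; left
    apply hin (C.BB_eq_one hA hv hw hvw hub L' hgv' ?_)
    rw [hc', h0', zero_smul, add_zero]
  right; right
  have hqv : q v ≠ 0 := fun h1 => hv0 (q_ne C.O C.Q hv h1)
  have hcc : c = c' := by
    have h1 := hc2.resolve_left h0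
    have h2 := hc2'.resolve_left h0'
    exact mul_right_cancel₀ hqv (h1.trans h2.symm)
  have h1 : (MulAut.conj u * a)⁻¹ * (MulAut.conj u' * b) = 1 := by
    have h2 := mul_mem (inv_mem hua) hub
    have L2 := L.inv.mul L'
    rw [inv_one, one_mul] at L2
    refine C.BB_eq_one hA hv hw hvw h2 L2 ?_ ?_
    · show g.symm (g' v) = v
      rw [hgv', Equiv.symm_apply_eq, hgv]
    · show g.symm (g' w) = w
      rw [hc', Equiv.symm_apply_eq, hc, hcc]
  have h2 : MulAut.conj u * a = MulAut.conj u' * b := inv_mul_eq_one.1 h1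
  have h3 : b = MulAut.conj (u'⁻¹ * u) * a := by
    rw [map_mul, map_inv, mul_assoc, h2, inv_mul_cancel_left]
  refine ⟨a⁻¹ (u'⁻¹ * u), ?_⟩
  generalize u'⁻¹ * u = k at h3 ⊢
  rw [h3]
  ext x
  rw [MulAut.mul_apply, MulAut.mul_apply, MulAut.conj_apply, MulAut.conj_apply, map_mul, map_mul, map_inv,
    MulAut.inv_apply_self]

/-- **(k3)** -/
theorem filt (h4 : ∃ s : F, s ≠ 0 ∧ s ≠ 1) : ∃ U L, FltA T A U L := by
  obtain ⟨v, hv, hv0, hfix⟩ := C.exists_v hA
  obtain ⟨w, hw, hvw⟩ : ∃ w ∈ Fr.V0, H.h v w ≠ 0 := by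
    by_contra hcon
    push Not at hcon
    exact hv0 (C.O.nd v hv hcon)
  have D := C.dat hv hw hvw
  refine Chain.flt (Dat.chain D (A := A) (φ := FixZ T) ⟨fun e he _ t ht => hA.norm e he t ht, ?_⟩ h4)
  intro e he hez
  obtain ⟨u, hu, hue⟩ := C.exists_BB hA he hez
  obtain ⟨σ, g, L⟩ := C.lift e
  have h3 := sigma_of_fixZ C.O C.R C.hn C.hA C.hN C.hG1 T C.hT C.P L hez
  subst h3
  have L2 := (Lf.conj C.P u).mul L
  rw [one_mul] at L2
  have hgv := hfix _ hue _ L2
  obtain ⟨c, hc, -⟩ := C.BB_w hA hv hw hvw hue L2 hgv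
  obtain ⟨⟨m, hm⟩, Dg, -⟩ := C.BB_facts hA hue
  have hb := frame_lin C.O C.P C.Q C.R C.hn Dg L2 hm
  refine ⟨L.toLin, C.iso_of fun y => L.q y, ?_, fun x y => L.it x y⟩
  have h5 : (fl C.O C.Q C.hP hv hw hvw).Uni L2.toLin := by
    apply Uni.of_basis
    intro k hk
    rcases k_cases hk with ⟨x, rfl⟩ | rfl | rfl
    · rw [fb_ps, L2.toLin_apply, hb, C.O.addV]; exact zero_mem _
    · rw [fb_n, L2.toLin_apply, hgv, C.O.addV]; exact zero_mem _
    · rw [fb_n1, L2.toLin_apply, hc, add_right_comm, C.O.addV, zero_add]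
      have := (fl C.O C.Q C.hP hv hw hvw).f_mem (Nat.lt_succ_self n) (by omega)
      rw [fb_n] at this
      exact Submodule.smul_mem _ _ this
  have h6 : L.toLin = (ψ u)⁻¹ * L2.toLin := by
    ext y
    show g y = (ψ u)⁻¹ (ψ u (g y))
    exact ((ψ u).symm_apply_apply (g y)).symm
  rw [h6]
  exact Uni.mul (Uni.inv (D.uni u hu)) h5

end Ctx

end Cfsg.Agent.OddHalf.D4.MinusB

end

-- merged: Cfsg.Agent.OddHalf.D4.MinusB.Descent
section

/-!
# Descent: a semilinear involution of a quadratic space of characteristic 2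

`g` a semilinear involution with nontrivial field automorphism `s` (`F` finite of characteristic 2), `q (g v) = s (q v)`,
`V₀` a `g`-invariant subspace on which the polar form is not zero: `V₀` has a nonzero singular vector.
-/

set_option autoImplicit false

namespace Cfsg.Agent.OddHalf.D4.MinusB

/-- `z² + z` -/
def asHom (F : Type*) [Field F] [CharP F 2] : F →+ F where
  toFun z := z * z + z
  map_zero' := by simp
  map_add' a b := by
    have : (a + b) * (a + b) = a * a + b * b := by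
      have := CharTwo.add_self_eq_zero (a * b)
      linear_combination this
    rw [this]; ring

theorem asHom_apply {F : Type*} [Field F] [CharP F 2] (z : F) : asHom F z = z * z + z := rfl

theorem card_ker (F : Type*) [Field F] [CharP F 2] : Nat.card (asHom F).ker = 2 := by
  rw [Nat.card_eq_two_iff]
  refine ⟨⟨0, (asHom F).ker.zero_mem⟩, ⟨1, ?_⟩, ?_, ?_⟩
  · rw [AddMonoidHom.mem_ker, asHom_apply, mul_one]
    exact CharTwo.add_self_eq_zero 1
  · intro h
    exact zero_ne_one (congrArg Subtype.val h)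
  · rw [Set.eq_univ_iff_forall]
    rintro ⟨z, hz⟩
    rw [AddMonoidHom.mem_ker, asHom_apply] at hz
    have h1 : z * (z + 1) = 0 := by rw [mul_add, mul_one]; exact hz
    rcases mul_eq_zero.1 h1 with h | h
    · exact Or.inl (Subtype.ext h)
    · refine Or.inr (Subtype.ext ?_)
      show z = 1
      rw [← CharTwo.add_self_eq_zero (1 : F)] at h
      exact add_right_cancel h

theorem index_range (F : Type*) [Field F] [CharP F 2] [Finite F] : (asHom F).range.index = 2 := by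
  have h1 := (asHom F).range.card_mul_index
  have h2 := (asHom F).ker.card_mul_index
  rw [AddSubgroup.index_ker, card_ker] at h2
  have h3 : 0 < Nat.card (asHom F).range := Nat.card_pos
  rw [← h2, mul_comm 2] at h1
  exact Nat.eq_of_mul_eq_mul_left h3 h1

/-- the fixed elements of an involutory automorphism are of the form `z² + z` -/
theorem mem_range {F : Type*} [Field F] [CharP F 2] [Finite F] {s : F ≃+* F} (hs1 : s ≠ 1) (hss : ∀ a, s (s a) = a)
    {d : F} (hd : s d = d) : ∃ z, z * z + z = d := by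
  obtain ⟨l, hl⟩ : ∃ l, s l ≠ l := by
    by_contra h
    push Not at h
    exact hs1 (RingEquiv.ext h)
  have hl0 : l + s l ≠ 0 := by
    intro h
    apply hl
    have h1 := CharTwo.add_self_eq_zero l
    exact add_left_cancel (h.trans h1.symm)
  obtain ⟨y, hy⟩ : ∃ y, y = d * (l / (l + s l)) := ⟨_, rfl⟩
  have h1 : y + s y = d := by
    rw [hy, map_mul, hd, map_div₀, map_add, hss, add_comm (s l) l, ← mul_add, ← add_div, div_self hl0, mul_one]
  have hI : ∀ a, a ∈ (asHom F).range → s a ∈ (asHom F).range := by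
    rintro _ ⟨z, rfl⟩
    exact ⟨s z, by rw [asHom_apply, asHom_apply, map_add, map_mul]⟩
  have h2 : y + s y ∈ (asHom F).range := by
    rw [AddSubgroup.add_mem_iff_of_index_two (index_range F)]
    exact ⟨hI y, fun h => by rw [← hss y]; exact hI _ h⟩
  rw [h1] at h2
  exact h2

variable {F V : Type*} [Field F] [AddCommGroup V] [Module F V]

theorem descent [Finite F] (h2 : (2 : F) = 0) {q : V → F} {h : V → V → F}
    (qadd : ∀ v w, q (v + w) = q v + q w + h v w) (qsmul : ∀ (a : F) v, q (a • v) = a * a * q v)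
    (hsmul : ∀ (a : F) v w, h (a • v) w = a * h v w) (hadd : ∀ u v w, h (u + v) w = h u w + h v w)
    {V₀ : Submodule F V} (hne : ∃ v ∈ V₀, ∃ w ∈ V₀, h v w ≠ 0) {s : F ≃+* F} (hs1 : s ≠ 1) {g : Equiv.Perm V}
    (gadd : ∀ u v, g (u + v) = g u + g v) (gsmul : ∀ (a : F) v, g (a • v) = s a • g v)
    (gq : ∀ v, q (g v) = s (q v)) (gg : ∀ v, g (g v) = v) (gV : ∀ w ∈ V₀, g w ∈ V₀) :
    ∃ w ∈ V₀, w ≠ 0 ∧ q w = 0 := by
  have hc : CharP F 2 := CharTwo.of_one_ne_zero_of_two_eq_zero one_ne_zero h2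
  have hVadd : ∀ v : V, v + v = 0 := by
    intro v
    have : (2 : F) • v = v + v := two_smul F v
    rw [← this, h2, zero_smul]
  have q0 : q 0 = 0 := by
    have := qsmul 0 0
    rwa [zero_smul, zero_mul, zero_mul] at this
  have hsym : ∀ v w, h v w = h w v := by
    intro v w
    have h1 := qadd v w
    have h3 := qadd w v
    rw [add_comm w v, add_comm (q w)] at h3
    exact add_left_cancel (h1.symm.trans h3)
  have hself : ∀ v, h v v = 0 := by
    intro v
    have h1 := qadd v v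
    rw [hVadd, q0, CharTwo.add_self_eq_zero, zero_add] at h1
    exact h1.symm
  obtain ⟨v', hv', w', hw', hvw⟩ := hne
  have hv0 : v' ≠ 0 := by
    rintro rfl
    apply hvw
    have := hsmul 0 0 w'
    rwa [zero_smul, zero_mul] at this
  have hss : ∀ a, s (s a) = a := by
    intro a
    have h1 := gg (a • v')
    rw [gsmul, gsmul, gg] at h1
    have h3 : (s (s a) - a) • v' = 0 := by rw [sub_smul, h1, sub_self]
    rcases smul_eq_zero.1 h3 with h4 | h4
    · exact sub_eq_zero.1 h4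
    · exact absurd h4 hv0
  obtain ⟨l, hl⟩ : ∃ l, s l ≠ l := by
    by_contra h
    push Not at h
    exact hs1 (RingEquiv.ext h)
  have hl0 : l + s l ≠ 0 := by
    intro h
    apply hl
    have h1 := CharTwo.add_self_eq_zero l
    exact add_left_cancel (h.trans h1.symm)
  -- fixed vectors span
  have key : ∀ u ∈ V₀, ∀ w, h u w ≠ 0 → ∃ f ∈ V₀, g f = f ∧ h f w ≠ 0 := by
    intro u hu w huw
    by_contra hcon
    push Not at hcon
    have hfix : ∀ a : F, h (a • u + s a • g u) w = 0 := by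
      intro a
      refine hcon _ (V₀.add_mem (V₀.smul_mem a hu) (V₀.smul_mem _ (gV u hu))) ?_
      rw [gadd, gsmul, gsmul, gg, hss, add_comm]
    have e1 := hfix 1
    have e2 := hfix l
    rw [map_one, hadd, hsmul, hsmul, one_mul, one_mul] at e1
    rw [hadd, hsmul, hsmul] at e2
    have e3 : (l + s l) * h u w = 0 := by
      have e4 := CharTwo.add_self_eq_zero (s l * h (g u) w)
      have : (l + s l) * h u w = s l * (h u w + h (g u) w) + (l * h u w + s l * h (g u) w)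
        - (s l * h (g u) w + s l * h (g u) w) := by ring
      rw [this, e1, e2, e4]; ring
    exact (mul_ne_zero hl0 huw) e3
  obtain ⟨v, hv, hgv, h3⟩ := key v' hv' w' hvw
  rw [hsym] at h3
  obtain ⟨w, hw, hgw, h4⟩ := key w' hw' v h3
  have hvf : s (q v) = q v := by rw [← gq, hgv]
  have hwf : s (q w) = q w := by rw [← gq, hgw]
  have hhf : s (h w v) = h w v := by
    have e1 : s (q (w + v)) = q (w + v) := by rw [← gq, gadd, hgw, hgv]
    rw [qadd, map_add, map_add, hvf, hwf] at e1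
    exact add_left_cancel e1
  by_cases hq : q v = 0
  · refine ⟨v, hv, ?_, hq⟩
    rintro rfl
    apply h4
    rw [hsym]
    have := hsmul 0 0 w
    rwa [zero_smul, zero_mul] at this
  · obtain ⟨z, hz⟩ := mem_range hs1 hss (d := q v * q w / (h w v * h w v)) (by
      rw [map_div₀, map_mul, map_mul, hvf, hwf, hhf])
    have hx : ∃ x : F, x = h w v / q v * z := ⟨_, rfl⟩
    obtain ⟨x, hx⟩ := hx
    refine ⟨x • v + w, V₀.add_mem (V₀.smul_mem x hv) hw, fun h0 => ?_, ?_⟩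
    · apply h4
      have e1 : h (x • v + w) v = 0 := by
        rw [h0]
        have := hsmul 0 0 v
        rwa [zero_smul, zero_mul] at this
      rwa [hadd, hsmul, hself, mul_zero, zero_add] at e1
    · rw [qadd, qsmul, hsmul, hsym v w, hx]
      have e1 : h w v / q v * z * (h w v / q v * z) * q v + q w + h w v / q v * z * h w v =
          h w v * h w v / q v * (z * z + z + q v * q w / (h w v * h w v)) := by
        field_simp
        ring
      rw [e1, hz, CharTwo.add_self_eq_zero, mul_zero]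

end Cfsg.Agent.OddHalf.D4.MinusB

end

-- merged: Cfsg.Agent.OddHalf.D4.MinusB.Facts
section

/-!
# ODD, D4, (1B), `PΩ⁻`: `AFacts` from the setup

helper328.
-/

set_option autoImplicit false
set_option linter.unusedSectionVars false

namespace Cfsg.Agent.OddHalf.D4.MinusB

open CoxeterSystem Cfsg.Agent.ChevalleyStructure.CoxeterGeom Cfsg.Agent.Tits.Roots Cfsg.Agent.Nodes.TypeC
  Cfsg.Agent.Tits.RootComb
open Cfsg.Agent.Nodes.Comb Cfsg.Agent.Nodes.Reps Cfsg.Agent.Nodes.WittRoot Cfsg.Agent.Nodes.BNOf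
  Cfsg.Agent.Nodes.StabComb Cfsg.Agent.Nodes.Coroot Cfsg.Agent.Nodes.KindBC Cfsg.Agent.Nodes.TypeCForm
  Cfsg.Agent.Nodes.Bruhat Cfsg.Agent.Nodes.PosPair Cfsg.Agent.Nodes.OppDec
open Cfsg.Agent Cfsg.Agent.TitsThree Cfsg.Agent.TitsThree.Siegel Cfsg.Agent.TitsThree.WittFrame
  Cfsg.Agent.TitsThree.WittWeyl Cfsg.Agent.TitsThree.FrameCN Cfsg.Agent.TitsThree.LineBorel
open Cfsg.Agent.KFacts.WittOrth Cfsg.Agent.OddHalf.DblR.MinusComb Cfsg.Agent.OddHalf.DblR.SheetMinus
open Cfsg.Agent.KFacts.RgdAut Cfsg.Agent.KFacts.RgdDiag Cfsg.Agent.KFacts.RgdRigid Cfsg.Agent.KFacts.RgdTI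
  Cfsg.Agent.KFacts.RgdCent Cfsg.Agent.OddHalf.D4.Free

variable {F : Type*} [Field F] {V : Type*} [AddCommGroup V] [Module F V] {H : HForm F V} {n : ℕ}
  {Fr : Frame H (Fin n)} {K : Type*} [Group K] {M : Model Fr K} {ψ : K →* (V ≃ₗ[F] V)} {q : V → F}
  {W : Type*} [Group W] {cs : CoxeterSystem (CoxeterMatrix.B n) W} [Finite W] {Tor : Subgroup K} {nn : Fin n → K}
  [Finite F] [Finite V]

variable {T : Sylow 2 K} (C : Ctx M ψ q cs Tor nn T)

include C

namespace Ctx

/-- an element of `A` with a linear lift fixes `Z(T)` -/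
theorem fixZ {A : Subgroup (MulAut K)} (hA : GoodA T A) {e : MulAut K} (he : e ∈ A) {σ : F ≃+* F} {g : Equiv.Perm V}
    (L : Lf ψ q e σ g) (hσ : σ = 1) : FixZ T e := by
  subst hσ
  obtain ⟨m, hm⟩ := C.exists_pow hA he
  exact fixZ_of_lin C.O C.R C.hn C.hA C.hN C.hG1 T C.hT C.P C.Q L hm (hA.norm e he)

/-- (k1) -/
theorem cyc {A : Subgroup (MulAut K)} (hA : GoodA T A) {a b : MulAut K} (ha : a ∈ A) (hb : b ∈ A)
    (haz : FixZ T (a * a)) (hbz : FixZ T (b * b)) : FixZ T a ∨ FixZ T b ∨ FixZ T (a⁻¹ * b) := by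
  obtain ⟨σ, g, L⟩ := C.lift a
  obtain ⟨τ, k, L'⟩ := C.lift b
  have h1 := sigma_of_fixZ C.O C.R C.hn C.hA C.hN C.hG1 T C.hT C.P (L.mul L) haz
  have h2 := sigma_of_fixZ C.O C.R C.hn C.hA C.hN C.hG1 T C.hT C.P (L'.mul L') hbz
  rcases ringAut_cyc h1 h2 with h | h | h
  · exact Or.inl (C.fixZ hA ha L h)
  · exact Or.inr (Or.inl (C.fixZ hA hb L' h))
  · exact Or.inr (Or.inr (C.fixZ hA (mul_mem (inv_mem ha) hb) (L.inv.mul L') h))

/-- (k5) -/
theorem out {A : Subgroup (MulAut K)} (hA : GoodA T A) {e : MulAut K} (he : e ∈ A) (hee : e * e = 1) : FixZ T e := by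
  obtain ⟨σ, g, L⟩ := C.lift e
  refine C.fixZ hA he L ?_
  by_contra hσ
  have h2 : e ^ 2 = 1 := by rw [pow_two, hee]
  obtain ⟨u, hu, hU, hUN, hk, D⟩ := exists_beta C.O C.R C.hn C.hG1 T C.hT (m := 1) (by rwa [pow_one]) (hA.norm e he)
  have L2 := (Lf.conj C.P u).mul L
  rw [one_mul] at L2
  have hb := frame_b C.O C.P C.Q C.R C.hn D L2
  obtain ⟨-, h3⟩ := L2.pow_eq C.O C.P C.Q (by have := C.hn; omega) (hk 2 h2)
  obtain ⟨p0, hp0⟩ := C.O.p0
  have hw0 : p0.w ≠ 0 := by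
    intro h4
    rw [C.O.adm_one' h4] at hp0
    exact hp0 Frame.Adm.one_c
  obtain ⟨w, hw, hvw⟩ : ∃ w ∈ Fr.V0, H.h p0.w w ≠ 0 := by
    by_contra hcon
    push Not at hcon
    exact hw0 (C.O.nd _ (Fr.ok_mem p0.ok) hcon)
  obtain ⟨y, hy, hy0, hqy⟩ := descent (V₀ := Fr.V0) C.O.two C.Q.qadd C.Q.qsmul H.smul_left H.add_left
    ⟨p0.w, Fr.ok_mem p0.ok, w, hw, hvw⟩ hσ L2.add L2.smul L2.q
    (fun v => by
      have := congrArg (fun k : Equiv.Perm V => k v) h3
      rw [pow_two] at this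
      exact this)
    (fun w hw => L2.V0 C.O C.P C.Q hb hw)
  exact hy0 (q_ne C.O C.Q hy hqy)

/-- **The facts.** -/
theorem afacts (h4 : ∃ s : F, s ≠ 0 ∧ s ≠ 1) : AFacts T where
  sq z hz := by
    obtain ⟨t, rfl⟩ := (mem_X_ne M (i01 C.hn)).1 ((inZ_iff' C.O C.R C.hn C.hA C.hN C.hG1 T C.hT).1 hz)
    apply C.P.inj
    rw [map_mul, map_one, C.P.X, C.O.x_sq]
  cyc A hA a ha b hb haz hbz := C.cyc hA ha hb haz hbz
  field A hA e he g h := by
    obtain ⟨σ, k, L⟩ := C.lift e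
    exact C.fixZ hA he L (sigma_of_fix_conj C.O C.R C.hn C.hA C.hN C.hG1 T C.hT C.P L g h)
  filt A hA := C.filt hA h4
  graph A hA a ha b hb haz hbz := C.graph hA ha hb haz hbz
  out := Or.inr (Or.inl fun A hA e he hee => C.out hA he hee)

end Ctx

end Cfsg.Agent.OddHalf.D4.MinusB

end

-- merged: Cfsg.Agent.OddHalf.D4.MinusB.LiftInst
section

/-!
# ODD, D4, (1B), `PΩ⁻`: the instance of `Lift`

helper335 for helper328. `qd_minus`, `rep_minus` : the quadratic form and the natural representation of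
`PΩ⁻_{2m+2}(F)`, `|F|` even; `exists_lift` : every automorphism is induced by a semilinear isometry.
-/

set_option autoImplicit false
set_option linter.unusedSectionVars false

namespace Cfsg.Agent.OddHalf.D4.MinusB

open CoxeterSystem Cfsg.Agent.ChevalleyStructure.CoxeterGeom Cfsg.Agent.Tits.Roots Cfsg.Agent.Nodes.TypeC
open Cfsg.Agent Cfsg.Agent.TitsThree Cfsg.Agent.TitsThree.Siegel Cfsg.Agent.TitsThree.WittFrame
  Cfsg.Agent.TitsThree.WittWeyl Cfsg.Agent.TitsThree.FrameCN Cfsg.Agent.TitsThree.LineBorel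
open Cfsg.Agent.KFacts.WittOrth Cfsg.Agent.KFacts.SpecMinus
open QuadraticMap Cfsg.Agent.LieClassical.OrthCore Cfsg.Agent.LieClassical.OrthTrans
  Cfsg.Agent.LieClassical.OrthForms Cfsg.Agent.LieClassical.OrthSimple
  Cfsg.Agent.TitsThree.KSideO Cfsg.Agent.TitsThree.StdData Cfsg.Agent.TitsThree.WBridge
  Cfsg.Agent.ClassicalGeometry.OrthSemi Cfsg.Agent.ClassicalGeometry.SympAutSemi

variable {F : Type*} [Field F]

/-- the quadratic form of the minus frame -/
theorem qd_minus (h2 : (2 : F) = 0) {m : ℕ} (a b : F)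
    (hab : ∀ z₁ z₂ : F, z₁ ^ 2 + a * z₁ * z₂ + b * z₂ ^ 2 = 0 → z₁ = 0 ∧ z₂ = 0) :
    Qd (toFrame (wminus m F a b hab)) (minusForm m F a b) where
  qadd v w := by
    show minusForm m F a b (v + w) = minusForm m F a b v + minusForm m F a b w + polar (minusForm m F a b) v w
    rw [QuadraticMap.polar]; ring
  qsmul c v := by
    rw [QuadraticMap.map_smul, smul_eq_mul]
  qb := by
    rintro ⟨i, c⟩
    cases c
    · have h1 : (0 : F) = -minusForm m F a b ((wminus m F a b hab).f i) := (wminus m F a b hab).f_sing i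
      exact neg_eq_zero.1 h1.symm
    · have h1 : (0 : F) = -minusForm m F a b ((wminus m F a b hab).e i) := (wminus m F a b hab).e_sing i
      exact neg_eq_zero.1 h1.symm
  qok w hw := by
    refine ⟨hw, ?_⟩
    show minusForm m F a b w = -minusForm m F a b w
    have h1 : minusForm m F a b w + minusForm m F a b w = 0 := by rw [← two_mul, h2, zero_mul]
    exact eq_neg_of_add_eq_zero_left h1

section

variable [Finite F] (h2 : (2 : F) = 0) {m : ℕ} (hm2 : 2 ≤ m) (hm0 : 0 < m) (a b : F)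
  (hab : ∀ z₁ z₂ : F, z₁ ^ 2 + a * z₁ * z₂ + b * z₂ ^ 2 = 0 → z₁ = 0 ∧ z₂ = 0)
  (O : Orth (toFrame (wminus m F a b hab)))
  (hI : ∀ g ∈ (modelMinus hm2 a b hab).I, (HO (minusForm m F a b)).IsIso g)
  {W : Type*} [Group W] (cs : CoxeterSystem (CoxeterMatrix.B m) W)

/-- the natural representation of `PΩ⁻` -/
theorem rep_minus : Rep (modelMinus hm2 a b hab) (minusForm m F a b)
    (KFacts.SpecMinus.ψ (modelMinus hm2 a b hab) O hI hm0 cs) where
  inj := KFacts.SpecMinus.ψ_inj _ O hI hm0 cs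
  X x y t := KFacts.SpecMinus.ψ_φ _ O hI hm0 cs _
  Z x p := KFacts.SpecMinus.ψ_φ _ O hI hm0 cs _
  q u v := by
    obtain ⟨g, rfl⟩ := KFacts.SpecMinus.φ_surj (modelMinus hm2 a b hab) cs hm0 u
    rw [KFacts.SpecMinus.ψ_φ]
    exact E_le_O g.2 v

include h2 in
/-- **Every automorphism of `PΩ⁻` is induced by a semilinear isometry.** -/
theorem exists_lift (hm : 3 ≤ m) (α : MulAut (Cfsg.POmega F ⇑(minusForm m F a b))) :
    ∃ (σ : F ≃+* F) (g : Equiv.Perm ((Fin m ⊕ Fin m) ⊕ Fin 2 → F)),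
      Lf (KFacts.SpecMinus.ψ (modelMinus hm2 a b hab) O hI hm0 cs) (minusForm m F a b) α σ g := by
  have : CharP F 2 := CharTwo.of_one_ne_zero_of_two_eq_zero one_ne_zero h2
  have hG := good_minus hm2 a b hab
  let M := modelMinus hm2 a b hab
  let e0 : ↥(E (minusForm m F a b)) ≃* Cfsg.POmega F ⇑(minusForm m F a b) :=
    MulEquiv.ofBijective M.φ ⟨KFacts.SpecMinus.φ_inj M O hI hm0, KFacts.SpecMinus.φ_surj M cs hm0⟩
  let α' : MulAut ↥(E (minusForm m F a b)) := e0.trans (MulEquiv.trans α e0.symm)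
  obtain ⟨N, hN⟩ := Cfsg.Agent.AutOrth.Final.surjective_minus hm hab (quotAut α')
  have h1 : quotAut ((conjE (minusForm m F a b) N)⁻¹ * α') = 1 := by
    rw [map_mul, map_inv]
    have h3 : quotAut (conjE (minusForm m F a b) N) = quotAut α' := hN
    rw [h3, inv_mul_cancel]
  have h3 : conjE (minusForm m F a b) N = α' :=
    inv_mul_eq_one.1 (eq_one_of_quotAut (commutator_E hG) _ h1)
  obtain ⟨σ, c, hS⟩ := N.2
  have hring : ringChar F = 2 := ringChar.eq F 2 ▸ rfl
  obtain ⟨d, hd⟩ : ∃ d : F, c = d * d := FiniteField.isSquare_of_char_two hring c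
  have hd0 : d ≠ 0 := by
    rintro rfl
    exact hS.ne (by rw [hd, mul_zero])
  let D : Equiv.Perm ((Fin m ⊕ Fin m) ⊕ Fin 2 → F) :=
    { toFun := fun v => d⁻¹ • v
      invFun := fun v => d • v
      left_inv := fun v => by
        show d • d⁻¹ • v = v
        rw [smul_smul, mul_inv_cancel₀ hd0, one_smul]
      right_inv := fun v => by
        show d⁻¹ • d • v = v
        rw [smul_smul, inv_mul_cancel₀ hd0, one_smul] }
  refine ⟨σ, D * N.1, ?_, ?_, ?_, ?_⟩
  · intro u v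
    show d⁻¹ • N.1 (u + v) = d⁻¹ • N.1 u + d⁻¹ • N.1 v
    rw [hS.add, smul_add]
  · intro x v
    show d⁻¹ • N.1 (x • v) = σ x • d⁻¹ • N.1 v
    rw [hS.smul, smul_comm]
  · intro v
    show minusForm m F a b (d⁻¹ • N.1 v) = σ (minusForm m F a b v)
    rw [QuadraticMap.map_smul, hS.form, hd, smul_eq_mul]
    field_simp
  · intro x v
    show KFacts.SpecMinus.ψ M O hI hm0 cs (α x) (d⁻¹ • N.1 v) = d⁻¹ • N.1 (KFacts.SpecMinus.ψ M O hI hm0 cs x v)
    rw [map_smul]
    congr 1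
    obtain ⟨k, rfl⟩ := e0.surjective x
    have e1 : α (e0 k) = e0 (α' k) := by
      show α (e0 k) = e0 (e0.symm (α (e0 k)))
      rw [e0.apply_symm_apply]
    have e2 : KFacts.SpecMinus.ψ M O hI hm0 cs (e0 (α' k)) = (α' k).1 := KFacts.SpecMinus.ψ_φ M O hI hm0 cs _
    have e3 : KFacts.SpecMinus.ψ M O hI hm0 cs (e0 k) = k.1 := KFacts.SpecMinus.ψ_φ M O hI hm0 cs _
    rw [e1, e2, e3, ← h3, coe_conjE, conjLin_apply']

end

end Cfsg.Agent.OddHalf.D4.MinusB

end

-- merged: Cfsg.Agent.OddHalf.D4.MinusB.FactsInst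
section

/-!
# ODD, D4, (1B): `BFacts` for `PΩ⁻_{2m+2}(F)`, `m ≥ 3`, `|F| ≥ 4` even

helper328. `afacts_minus`, `bfacts_minus`.
-/

set_option autoImplicit false
set_option linter.unusedSectionVars false

namespace Cfsg.Agent.OddHalf.D4.MinusB

open CoxeterSystem Cfsg.Agent.ChevalleyStructure.CoxeterGeom Cfsg.Agent.Tits.Roots Cfsg.Agent.Nodes.TypeC
open Cfsg.Agent.Nodes.Comb Cfsg.Agent.Nodes.Reps Cfsg.Agent.Nodes.BNOf Cfsg.Agent.Nodes.OppDec
open Cfsg.Agent Cfsg.Agent.TitsThree Cfsg.Agent.TitsThree.Siegel Cfsg.Agent.TitsThree.WittFrame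
  Cfsg.Agent.TitsThree.WittWeyl Cfsg.Agent.TitsThree.FrameCN Cfsg.Agent.TitsThree.LineBorel
open Cfsg.Agent.KFacts.WittOrth Cfsg.Agent.KFacts.SpecMinus Cfsg.Agent.KFacts.RgdCent Cfsg.Agent.KFacts.RgdCentW
open Cfsg.Agent.OddHalf.DblR.SheetMinus
open QuadraticMap Cfsg.Agent.LieClassical.OrthCore Cfsg.Agent.LieClassical.OrthTrans
  Cfsg.Agent.LieClassical.OrthForms Cfsg.Agent.LieClassical.OrthSimple
  Cfsg.Agent.TitsThree.KSideO Cfsg.Agent.TitsThree.StdData Cfsg.Agent.TitsThree.WBridge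
open Cfsg.Agent.OddHalf.D4.Free

variable {F : Type*} [Field F] [Finite F]

/-- **The facts for `PΩ⁻_{2m+2}(F)`.** -/
theorem afacts_minus (h2 : (2 : F) = 0) (hs : ∃ s : F, s ≠ 0 ∧ s ≠ 1) {m : ℕ} (hm : 3 ≤ m) (a b : F)
    (hab : ∀ z₁ z₂ : F, z₁ ^ 2 + a * z₁ * z₂ + b * z₂ ^ 2 = 0 → z₁ = 0 ∧ z₂ = 0) :
    ∃ T : Sylow 2 (Cfsg.POmega F ⇑(minusForm m F a b)), AFacts T := by
  have : Fact (Nat.Prime 2) := ⟨Nat.prime_two⟩
  have : CharP F 2 := CharTwo.of_one_ne_zero_of_two_eq_zero one_ne_zero h2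
  have hm2 : 2 ≤ m := by omega
  have hm0 : 0 < m := by omega
  have O := orth_minus h2 m a b hab
  have hA := ambT_minus h2 hm2 a b hab
  obtain ⟨p0, hp0⟩ := O.p0
  let cs := (CoxeterMatrix.B m).toCoxeterSystem
  have hW : Finite (CoxeterMatrix.B m).Group := Nodes.TypeC.finite_W cs
  have R := Nodes.WittAll.rgdC_model (modelMinus hm2 a b hab) hA hp0 cs
  have top : RGD.Sup (Nodes.WittModel.X (modelMinus hm2 a b hab)) {x | IsRoot cs (isCartan m) x} = ⊤ :=
    Nodes.WittModel.G1_eq_top (modelMinus hm2 a b hab) hm0 cs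
  have hsimp := simple_minus hm a b hab
  have hZ : Subgroup.center (Cfsg.POmega F ⇑(minusForm m F a b)) = ⊥ := by
    rcases hsimp.eq_bot_or_eq_top_of_normal (Subgroup.center _) inferInstance with h3 | h3
    · exact h3
    · exfalso
      let x : Fin m × Bool := (⟨0, hm0⟩, true)
      let y : Fin m × Bool := (⟨1, by omega⟩, true)
      have hxy : x.1 ≠ y.1 := by
        intro h
        have := congrArg Fin.val h
        simp [x, y] at this
      have h1 := Z_nd (modelMinus hm2 a b hab) O (x := x) (y := y) hxy hA.iso hm0 (p := p0) fun q => by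
        have : (modelMinus hm2 a b hab).Z x p0 ∈ Subgroup.center (Cfsg.POmega F ⇑(minusForm m F a b)) := by
          rw [h3]; trivial
        exact (Subgroup.mem_center_iff.1 this _).symm
      rw [h1] at hp0
      exact hp0 Frame.Adm.one_c
  obtain ⟨T, hT⟩ := KFacts.RgdAutFacts.exists_sylow R (KFacts.RgdRigid.GG_eq_top top)
  have C : Ctx (modelMinus hm2 a b hab) (KFacts.SpecMinus.ψ (modelMinus hm2 a b hab) O hA.iso hm0 cs)
      (minusForm m F a b) cs _ _ T :=
    { O := O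
      P := rep_minus hm2 hm0 a b hab O hA.iso cs
      Q := qd_minus h2 a b hab
      R := R
      hn := hm
      hA := hA
      hN := noCent_of_center R top hZ
      hG1 := top
      hT := hT
      hP := DblR.MinusTor.isPlane_minus h2 m a b hab
      lift := fun α => exists_lift h2 hm2 hm0 a b hab O hA.iso cs hm α }
  exact ⟨T, C.afacts hs⟩

/-- **`BFacts` for `PΩ⁻_{2m+2}(F)`.** -/
theorem bfacts_minus (h2 : (2 : F) = 0) (hs : ∃ s : F, s ≠ 0 ∧ s ≠ 1) {m : ℕ} (hm : 3 ≤ m) (a b : F)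
    (hab : ∀ z₁ z₂ : F, z₁ ^ 2 + a * z₁ * z₂ + b * z₂ ^ 2 = 0 → z₁ = 0 ∧ z₂ = 0)
    {G : Type*} [Group G] [Finite G] {K : Subgroup G} (e : Cfsg.POmega F ⇑(minusForm m F a b) ≃* ↥K) : BFacts K := by
  obtain ⟨T, hT⟩ := afacts_minus h2 hs hm a b hab
  exact hT.bfacts e

end Cfsg.Agent.OddHalf.D4.MinusB

end
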